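import Cfsg.Agent.INV.WR.FacA

set_option autoImplicit false

namespace CL.WR

open Subgroup

namespace FB

variable {G : Type*} [Group G] {A : Type*} [Group A] {V : Subgroup A} {z b c : A}
  {S : Sylow 2 A} {t : G} {ι : A →* G} {σ pr : A → G}

theorem vcomm (hA : HypA V z b S) {x y : A} (hx : x ∈ V) (hy : y ∈ V) : Commute x y := by
  have h1 := hA.sq x hx
  have h2 := hA.sq y hy
  have h3 := hA.sq _ (mul_mem hx hy)
  calc x * y = (x * y)⁻¹ := (inv_eq_of_mul_eq_one_right h3).symm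
    _ = y * x := by
      rw [mul_inv_rev, inv_eq_of_mul_eq_one_right h1, inv_eq_of_mul_eq_one_right h2]

theorem cmem {n v : A} (hn : n ∈ normalizer (V : Set A)) (hv : v ∈ V) : n * v * n⁻¹ ∈ V :=
  (mem_normalizer_iff.1 hn v).1 hv

theorem nu_mem (hc : c ∈ normalizer (V : Set A)) {v : A} (hv : v ∈ V) : nu c v ∈ V :=
  mul_mem (cmem hc hv) hv

theorem tt (C : Cfg t ι ⊥) : t * t = 1 := by
  rw [← pow_two, ← C.t2, pow_orderOf_eq_one]

theorem σ1 (h : Spl V t ι σ) : σ 1 = 1 := by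
  have := h.mul 1 V.one_mem 1 V.one_mem
  rw [mul_one] at this
  exact left_eq_mul.1 this

theorem σσ (hA : HypA V z b S) (h : Spl V t ι σ) {v : A} (hv : v ∈ V) : σ v * σ v = 1 := by
  rw [← h.mul v hv v hv, hA.sq v hv, σ1 h]

theorem tσ (hA : HypA V z b S) (h : Spl V t ι σ) {v : A} (hv : v ∈ V) :
    t * σ v * t⁻¹ = σ v * ι v := by
  rw [← h.diag v hv, ← mul_assoc (σ v), σσ hA h hv, one_mul]

/-- coordinates on `W` -/
def co (t : G) (σ : A → G) (x y : A) : G := σ x * (t * σ y * t⁻¹)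

theorem co_eq (hA : HypA V z b S) (h : Spl V t ι σ) {x y : A} (hx : x ∈ V) (hy : y ∈ V) :
    co t σ x y = σ (x * y) * ι y := by
  rw [co, tσ hA h hy, h.mul x hx y hy, mul_assoc]

theorem co_mem (hA : HypA V z b S) (h : Spl V t ι σ) {x y : A} (hx : x ∈ V) (hy : y ∈ V) :
    co t σ x y ∈ Wg σ ι V :=
  (h.mem_W hA).2 ⟨_, mul_mem hx hy, y, hy, co_eq hA h hx hy⟩

theorem co_surj (hA : HypA V z b S) (h : Spl V t ι σ) {w : G} (hw : w ∈ Wg σ ι V) :
    ∃ x ∈ V, ∃ y ∈ V, w = co t σ x y := by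
  obtain ⟨u, hu, v, hv, rfl⟩ := (h.mem_W hA).1 hw
  exact ⟨u * v, mul_mem hu hv, v, hv, by
    rw [co_eq hA h (mul_mem hu hv) hv, mul_assoc, hA.sq v hv, mul_one]⟩

theorem wcomm (hA : HypA V z b S) (h : Spl V t ι σ) {x y : G} (hx : x ∈ Wg σ ι V)
    (hy : y ∈ Wg σ ι V) : Commute x y := by
  have h1 := h.sq_W hA hx
  have h2 := h.sq_W hA hy
  have h3 := h.sq_W hA (mul_mem hx hy)
  calc x * y = (x * y)⁻¹ := (inv_eq_of_mul_eq_one_right h3).symm
    _ = y * x := by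
      rw [mul_inv_rev, inv_eq_of_mul_eq_one_right h1, inv_eq_of_mul_eq_one_right h2]

theorem co_l (h : Spl V t ι σ) (x : A) : co t σ x 1 = σ x := by simp [co, σ1 h]

theorem co_r (h : Spl V t ι σ) (y : A) : co t σ 1 y = t * σ y * t⁻¹ := by simp [co, σ1 h]

theorem co_d (h : Spl V t ι σ) {v : A} (hv : v ∈ V) : co t σ v v = ι v := h.diag v hv

theorem co_mul (hA : HypA V z b S) (h : Spl V t ι σ) {x y x' y' : A} (hx : x ∈ V) (hy : y ∈ V)
    (hx' : x' ∈ V) (hy' : y' ∈ V) : co t σ x y * co t σ x' y' = co t σ (x * x') (y * y') := by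
  have := (wcomm hA h (co_mem hA h V.one_mem hy) (co_mem hA h hx' V.one_mem)).eq
  rw [co_l h, co_r h] at this
  simp only [co, h.mul x hx x' hx', h.mul y hy y' hy']
  calc _ = σ x * (t * σ y * t⁻¹ * σ x') * (t * σ y' * t⁻¹) := by group
    _ = _ := by rw [this]; group

theorem co_t (hA : HypA V z b S) (C : Cfg t ι ⊥) (h : Spl V t ι σ) {x y : A} (hx : x ∈ V)
    (hy : y ∈ V) : t * co t σ x y * t⁻¹ = co t σ y x := by
  have := (wcomm hA h (co_mem hA h V.one_mem hx) (co_mem hA h hy V.one_mem)).eq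
  rw [co_l h, co_r h] at this
  simp only [co]
  rw [← this]
  calc _ = t * σ x * t⁻¹ * ((t * t) * σ y * (t * t)⁻¹) := by group
    _ = _ := by rw [tt C]; group

theorem co_n (C : Cfg t ι ⊥) (h : Spl V t ι σ) {n x y : A} (hn : n ∈ normalizer (V : Set A))
    (hx : x ∈ V) (hy : y ∈ V) :
    ι n * co t σ x y * (ι n)⁻¹ = co t σ (n * x * n⁻¹) (n * y * n⁻¹) := by
  simp only [co]
  rw [← h.conj n hn x hx, ← h.conj n hn y hy]
  have := (C.tι n).eq
  calc _ = ι n * σ x * (ι n)⁻¹ * ((ι n * t) * σ y * (ι n * t)⁻¹) := by group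
    _ = _ := by rw [← this]; group

theorem co_inj (hA : HypA V z b S) (C : Cfg t ι ⊥) (h : Spl V t ι σ) {x y x' y' : A} (hx : x ∈ V)
    (hy : y ∈ V) (hx' : x' ∈ V) (hy' : y' ∈ V) (e : co t σ x y = co t σ x' y') :
    x = x' ∧ y = y' := by
  have key : ∀ x ∈ V, ∀ y ∈ V, co t σ x y = 1 → y = 1 := by
    intro x hx y hy e
    have e2 : co t σ y x = 1 := by rw [← co_t hA C h hx hy, e]; group
    have e3 := co_mul hA h hx hy hy hx
    rw [e, e2, (vcomm hA hy hx).eq, co_d h (mul_mem hx hy), mul_one, ← map_one ι] at e3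
    rw [co_eq hA h hx hy, ← C.inj e3, σ1 h, one_mul, ← map_one ι] at e
    exact C.inj e
  have e1 : co t σ (x * x') (y * y') = 1 := by
    rw [← co_mul hA h hx hy hx' hy', e]; exact h.sq_W hA (co_mem hA h hx' hy')
  have e2 : co t σ (y * y') (x * x') = 1 := by
    rw [← co_t hA C h (mul_mem hx hx') (mul_mem hy hy'), e1]; group
  exact ⟨mul_right_cancel ((key _ (mul_mem hy hy') _ (mul_mem hx hx') e2).trans (hA.sq _ hx').symm),
    mul_right_cancel ((key _ (mul_mem hx hx') _ (mul_mem hy hy') e1).trans (hA.sq _ hy').symm)⟩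

theorem zc (hC : HypC V z c) : IsConj z c := by
  obtain ⟨a, -, ρ, h1, h2, -⟩ := hC.swap
  exact h1.trans (isConj_iff.2 ⟨ρ, h2⟩)

theorem sq_of_conj (hA : HypA V z b S) {a : A} (ha : IsConj z a) : a * a = 1 := by
  obtain ⟨g, rfl⟩ := isConj_iff.1 ha
  calc _ = g * (z * z) * g⁻¹ := by group
    _ = 1 := by rw [hA.sq z hA.zV]; group

theorem pr_sq (hA : HypA V z b S) (h : Spl V t ι σ) (P : Pr V z ι σ pr) {a : A}
    (ha : IsConj z a) : pr a * pr a = 1 := by
  obtain ⟨g, rfl⟩ := isConj_iff.1 ha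
  rw [P.conj z (IsConj.refl z), P.eq z hA.zV (IsConj.refl z)]
  calc _ = ι g * (σ z * σ z) * (ι g)⁻¹ := by group
    _ = 1 := by rw [σσ hA h hA.zV]; group

theorem pr_diag (hA : HypA V z b S) (C : Cfg t ι ⊥) (h : Spl V t ι σ) (P : Pr V z ι σ pr) {a : A}
    (ha : IsConj z a) : pr a * (t * pr a * t⁻¹) = ι a := by
  obtain ⟨g, rfl⟩ := isConj_iff.1 ha
  rw [P.conj z (IsConj.refl z), P.eq z hA.zV (IsConj.refl z), map_mul, map_mul, map_inv,
    ← h.diag z hA.zV]
  have := (C.tι g).eq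
  calc _ = ι g * σ z * (ι g)⁻¹ * ((t * ι g) * σ z * (t * ι g)⁻¹) := by group
    _ = _ := by rw [this]; group

theorem pr_comm (P : Pr V z ι σ pr) {a x : A} (ha : IsConj z a) (hx : Commute x a) :
    Commute (ι x) (pr a) := by
  have := P.conj a ha x
  rw [hx.eq, mul_inv_cancel_right] at this
  exact mul_inv_eq_iff_eq_mul.1 this.symm

/-- `r₁ + r₂ ν` applied to `v` -/
def el (c v : A) (r : Bool × Bool) : A := cond r.1 v 1 * cond r.2 (nu c v) 1

def mulR (r s : Bool × Bool) : Bool × Bool := (r.1 && s.1, xor (r.1 && s.2) (r.2 && s.1))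

def addR (r s : Bool × Bool) : Bool × Bool := (xor r.1 s.1, xor r.2 s.2)

def act (α β γ δ : Bool × Bool) (p : (Bool × Bool) × Bool × Bool) : (Bool × Bool) × Bool × Bool :=
  (addR (mulR α p.1) (mulR γ p.2), addR (mulR β p.1) (mulR δ p.2))

theorem bits : ∀ α β γ δ : Bool × Bool, (∀ p, act α β γ δ (act α β γ δ p) = p) →
    (∀ p : (Bool × Bool) × Bool × Bool, act α β γ δ (act α β γ δ p.swap).swap =
      (mulR (true, true) p.1, mulR (true, true) p.2)) →
    α.1 = true ∧ β = (false, γ.2) ∧ γ.1 = false ∧ δ = (true, !α.2) := by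
  decide +kernel

theorem el_mem (hc : c ∈ normalizer (V : Set A)) {v : A} (hv : v ∈ V) (r : Bool × Bool) :
    el c v r ∈ V := by
  obtain ⟨_ | _, _ | _⟩ := r <;> simp [el, hv, nu_mem hc hv, mul_mem]

theorem nu_mul (hA : HypA V z b S) (hc : c ∈ normalizer (V : Set A)) {u v : A} (hu : u ∈ V)
    (hv : v ∈ V) : nu c (u * v) = nu c u * nu c v := by
  have := (vcomm hA hu (cmem hc hv)).eq
  simp only [nu]
  calc _ = c * u * c⁻¹ * (c * v * c⁻¹ * u) * v := by group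
    _ = _ := by rw [← this]; group

theorem nu_nu (hA : HypA V z b S) (cc : c * c = 1) {v : A}
    (hv : v ∈ V) : nu c (nu c v) = 1 := by
  have h1 := hA.sq v hv
  simp only [nu]
  calc _ = (c * c) * v * (c * c)⁻¹ * (c * (v * v) * c⁻¹) * v := by group
    _ = 1 := by rw [cc, h1]; simpa using h1

theorem el_mul (hA : HypA V z b S) (hc : c ∈ normalizer (V : Set A)) {a : A} (ha : a ∈ V)
    (r s : Bool × Bool) : el c a r * el c a s = el c a (addR r s) := by
  have he := nu_mem hc ha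
  have aa := hA.sq a ha
  have ee := hA.sq _ he
  have ea := (vcomm hA he ha).eq
  have aa' : ∀ x, a * (a * x) = x := fun x => by rw [← mul_assoc, aa, one_mul]
  have ea' : ∀ x, nu c a * (a * x) = a * (nu c a * x) := fun x => by
    rw [← mul_assoc, ea, mul_assoc]
  obtain ⟨_ | _, _ | _⟩ := r <;> obtain ⟨_ | _, _ | _⟩ := s <;>
    simp [el, addR, mul_assoc, aa, ee, ea, aa', ea']

theorem el_el (hA : HypA V z b S) (hc : c ∈ normalizer (V : Set A)) (cc : c * c = 1) {a : A}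
    (ha : a ∈ V) (r s : Bool × Bool) : el c (el c a s) r = el c a (mulR r s) := by
  have he := nu_mem hc ha
  have ee := hA.sq _ he
  have h1 : nu c 1 = 1 := by simp [nu]
  have h2 := nu_nu hA cc ha
  have h3 : nu c (a * nu c a) = nu c a := by rw [nu_mul hA hc ha he, h2, mul_one]
  obtain ⟨_ | _, _ | _⟩ := r <;> obtain ⟨_ | _, _ | _⟩ := s <;>
    simp [el, mulR, mul_assoc, ee, h1, h2, h3]

theorem el_inj (hA : HypA V z b S) (hc : c ∈ normalizer (V : Set A)) (cc : c * c = 1) {a : A}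
    (ha : a ∈ V) (e1 : nu c a ≠ 1) {r s : Bool × Bool} (e : el c a r = el c a s) : r = s := by
  have h1 : nu c 1 = 1 := by simp [nu]
  have h2 := nu_nu hA cc ha
  have h3 : nu c (a * nu c a) = nu c a := by rw [nu_mul hA hc ha (nu_mem hc ha), h2, mul_one]
  have a1 : a ≠ 1 := fun h => e1 (by rw [h, h1])
  have a2 : a * nu c a ≠ 1 := fun h => e1 (by rw [← h3, h, h1])
  have : el c a (addR r s) = 1 := by
    rw [← el_mul hA hc ha, e]; exact hA.sq _ (el_mem hc ha s)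
  revert this
  obtain ⟨_ | _, _ | _⟩ := r <;> obtain ⟨_ | _, _ | _⟩ := s <;> simp [el, addR, e1, a1, a2]

end FB

open FB

variable {G : Type*} [Group G] [Finite G] {A : Type*} [Group A] {V : Subgroup A} {z b c : A}
  {S : Sylow 2 A} {t : G} {ι : A →* G} {σ pr : A → G}

/-- `c' = pr c` is an involution with `c' · t c' t⁻¹ = ι c`, so it swaps `t` and `t ι c`, and it
centralises `ι C(c)`. `V₁ = C_W(t ι c)`; `V₁^{c'} ≤ C(t)` has no conjugate of `t` (`not_isConj`,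
`isConj`), so is `ι(X)`; `X = V` by `uniq` (`card_le`; `ι c ∉ W`). `W` centralises `V₁` and
`[W, t ι c] ≤ V₁`, so `W^{c'} ≤ W` by `mem_W_of`. -/
theorem Pr.mem_normalizer (hA : HypA V z b S) (hC : HypC V z c) (C : Cfg t ι ⊥) (h : Spl V t ι σ)
    (P : Pr V z ι σ pr) : pr c ∈ normalizer (Wg σ ι V : Set G) := by
  have hzc := zc hC
  have cc := sq_of_conj hA hzc
  have pp := pr_sq hA h P hzc
  have pi : (pr c)⁻¹ = pr c := inv_eq_of_mul_eq_one_right pp
  have hts : pr c * t * (pr c)⁻¹ = t * ι c := by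
    rw [(C.tι c).eq, ← pr_diag hA C h P hzc, pi]; group
  have hst : pr c * (t * ι c) * (pr c)⁻¹ = t := by
    rw [← hts]
    calc _ = (pr c * pr c) * t * (pr c * pr c)⁻¹ := by group
      _ = t := by rw [pp]; group
  set V₁ : Subgroup G := Wg σ ι V ⊓ centralizer {t * ι c} with hV₁
  let φ := (MulAut.conj (pr c)).toMonoidHom
  have φa : ∀ w, φ w = pr c * w * (pr c)⁻¹ := fun w => rfl
  have nc : ∀ w ∈ Wg σ ι V, ¬ IsConj t (φ w) := fun w hw hh =>
    h.not_isConj hA C hw (hh.trans (isConj_iff.2 ⟨pr c, rfl⟩ : IsConj w (φ w)).symm)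
  have rng : ∀ w ∈ V₁, ∃ x, ι x = φ w := by
    intro w hw
    have h1 : Commute w (t * ι c) := mem_centralizer_singleton_iff.1 hw.2
    have h2 : Commute (φ w) t := by
      have := h1.map φ
      rwa [φa (t * ι c), hst] at this
    obtain ⟨x, o, ho, e | e⟩ := C.cen _ h2
    · exact ⟨x, by rw [e, mem_bot.1 ho, mul_one]⟩
    · exfalso
      rw [mem_bot.1 ho, mul_one] at e
      refine nc w hw.1 (e ▸ h.isConj hA C (C.inj ?_))
      have h3 : φ w * φ w = 1 := by rw [← map_mul, h.sq_W hA hw.1, map_one]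
      rw [e, mul_assoc, ← mul_assoc (ι x), ← (C.tι x).eq, ← mul_assoc, ← mul_assoc, tt C, one_mul,
        ← map_mul] at h3
      rw [h3, map_one]
  have hX : (V₁.map φ).comap ι = V := by
    apply hC.uniq
    · rintro x ⟨w, hw, e⟩
      apply C.inj
      rw [map_mul, ← e, ← map_mul, h.sq_W hA hw.1, map_one, map_one]
    · refine (h.card_le hA C hC.cN cc).trans (le_of_eq ?_)
      have : ((V₁.map φ).comap ι).map ι = V₁.map φ := map_comap_eq_self (by
        rintro _ ⟨w, hw, rfl⟩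
        exact rng w hw)
      rw [← card_map_of_injective C.inj, this, card_map_of_injective (MulAut.conj (pr c)).injective]
    · intro v hv hcv
      refine ⟨ι v, ⟨co_d h hv ▸ co_mem hA h hv hv, mem_centralizer_singleton_iff.2
        ((C.tι v).symm.mul_right (hcv.symm.map ι))⟩, ?_⟩
      rw [φa, ← (pr_comm P hzc hcv.symm).eq, mul_inv_cancel_right]
    · rintro ⟨w, hw, e⟩
      have h1 : w = ι c := by
        apply (MulAut.conj (pr c)).injective
        show φ w = φ (ι c)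
        rw [e, φa, ← (pr_comm P hzc (Commute.refl c)).eq, mul_inv_cancel_right]
      refine hC.cV (hA.selfc V hA.sq le_rfl (mem_centralizer_iff.2 fun v hv => C.inj ?_))
      rw [map_mul, map_mul, ← h1]
      exact wcomm hA h (co_d h hv ▸ co_mem hA h hv hv) hw.1
  refine mem_normalizer_fintype fun w hw => h.mem_W_of hA C (x := φ w) (fun v hv => ?_) ?_ ?_ (nc w hw)
  · obtain ⟨w₁, hw₁, e⟩ : v ∈ (V₁.map φ).comap ι := hX ▸ hv
    exact e ▸ (wcomm hA h hw hw₁.1).map φ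
  · have ss : t * ι c * (t * ι c) = 1 := by
      rw [mul_assoc, ← mul_assoc (ι c), ← (C.tι c).eq, ← mul_assoc, ← mul_assoc, tt C, one_mul,
        ← map_mul, cc, map_one]
    have h1 : t * ι c * w * (t * ι c)⁻¹ ∈ Wg σ ι V := by
      obtain ⟨x, hx, y, hy, rfl⟩ := co_surj hA h hw
      have : t * ι c * co t σ x y * (t * ι c)⁻¹ = t * (ι c * co t σ x y * (ι c)⁻¹) * t⁻¹ := by group
      rw [this, co_n C h hC.cN hx hy, co_t hA C h (cmem hC.cN hx) (cmem hC.cN hy)]
      exact co_mem hA h (cmem hC.cN hy) (cmem hC.cN hx)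
    have h2 := (wcomm hA h h1 hw).eq
    generalize t * ι c = s at ss h1 h2 hst hV₁
    have si : s⁻¹ = s := inv_eq_of_mul_eq_one_right ss
    have h3 : s * w * s⁻¹ * w ∈ V₁ := by
      rw [hV₁]
      refine ⟨mul_mem h1 hw, mem_centralizer_singleton_iff.2 ?_⟩
      calc _ = w * (s * w * s⁻¹) * s := by rw [h2]
        _ = (s * s) * w * s⁻¹ * w := by rw [ss, ← mul_assoc w, inv_mul_cancel_right, si]; group
        _ = _ := by group
    obtain ⟨u, hu⟩ := rng _ h3
    refine ⟨u, hX ▸ ⟨_, h3, hu.symm⟩, ?_⟩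
    rw [hu, φa, φa, ← hst]
    calc _ = pr c * ((s * s) * w * s * w⁻¹) * (pr c)⁻¹ := by rw [ss]; group
      _ = _ := by rw [si, inv_eq_of_mul_eq_one_right (h.sq_W hA hw)]; group
  · rw [← map_mul, h.sq_W hA hw, map_one]

/-- the matrix of `c'` -/
theorem Pr.matrix (hA : HypA V z b S) (hC : HypC V z c) (C : Cfg t ι ⊥) (h : Spl V t ι σ)
    (P : Pr V z ι σ pr) : ∃ p q : Bool, ∀ x ∈ V, ∀ y ∈ V, pr c * co t σ x y * (pr c)⁻¹ =
      co t σ (el c x (true, p) * el c y (false, q)) (el c x (false, q) * el c y (true, !p)) := by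
  have hzc := zc hC
  have cc := sq_of_conj hA hzc
  have pp := pr_sq hA h P hzc
  have hN := P.mem_normalizer hA hC C h
  have ex : ∀ x y : A, ∃ u v : A, x ∈ V → y ∈ V →
      u ∈ V ∧ v ∈ V ∧ pr c * co t σ x y * (pr c)⁻¹ = co t σ u v := by
    intro x y
    by_cases hxy : x ∈ V ∧ y ∈ V
    · obtain ⟨u, hu, v, hv, e⟩ := co_surj hA h
        ((mem_normalizer_iff.1 hN _).1 (co_mem hA h hxy.1 hxy.2))
      exact ⟨u, v, fun _ _ => ⟨hu, hv, e⟩⟩
    · exact ⟨1, 1, fun h1 h2 => absurd ⟨h1, h2⟩ hxy⟩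
  choose f g hfg using ex
  have hmul : ∀ x ∈ V, ∀ y ∈ V, ∀ x' ∈ V, ∀ y' ∈ V,
      f (x * x') (y * y') = f x y * f x' y' ∧ g (x * x') (y * y') = g x y * g x' y' := by
    intro x hx y hy x' hx' y' hy'
    obtain ⟨h1, h2, h3⟩ := hfg x y hx hy
    obtain ⟨h1', h2', h3'⟩ := hfg x' y' hx' hy'
    obtain ⟨h4, h5, h6⟩ := hfg _ _ (mul_mem hx hx') (mul_mem hy hy')
    refine co_inj hA C h h4 h5 (mul_mem h1 h1') (mul_mem h2 h2') ?_
    rw [← h6, ← co_mul hA h h1 h2 h1' h2', ← h3, ← h3', ← co_mul hA h hx hy hx' hy']; group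
  have hcon : ∀ n ∈ normalizer (V : Set A), Commute n c → ∀ x ∈ V, ∀ y ∈ V,
      f (n * x * n⁻¹) (n * y * n⁻¹) = n * f x y * n⁻¹ ∧
        g (n * x * n⁻¹) (n * y * n⁻¹) = n * g x y * n⁻¹ := by
    intro n hn hnc x hx y hy
    obtain ⟨h1, h2, h3⟩ := hfg x y hx hy
    obtain ⟨h4, h5, h6⟩ := hfg _ _ (cmem hn hx) (cmem hn hy)
    refine co_inj hA C h h4 h5 (cmem hn h1) (cmem hn h2) ?_
    have := (pr_comm P hzc hnc).eq
    rw [← h6, ← co_n C h hn h1 h2, ← h3, ← co_n C h hn hx hy]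
    calc _ = (pr c * ι n) * co t σ x y * (pr c * ι n)⁻¹ := by group
      _ = _ := by rw [← this]; group
  have o := V.one_mem
  obtain ⟨α₁, α₂, hα⟩ := hC.endo (fun x => f x 1) (fun x hx => (hfg x 1 hx o).1)
    (fun x hx y hy => by simpa using (hmul x hx 1 o y hy 1 o).1)
    fun n hn hnc x hx => by simpa using (hcon n hn hnc x hx 1 o).1
  obtain ⟨β₁, β₂, hβ⟩ := hC.endo (fun x => g x 1) (fun x hx => (hfg x 1 hx o).2.1)
    (fun x hx y hy => by simpa using (hmul x hx 1 o y hy 1 o).2)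
    fun n hn hnc x hx => by simpa using (hcon n hn hnc x hx 1 o).2
  obtain ⟨γ₁, γ₂, hγ⟩ := hC.endo (fun x => f 1 x) (fun x hx => (hfg 1 x o hx).1)
    (fun x hx y hy => by simpa using (hmul 1 o x hx 1 o y hy).1)
    fun n hn hnc x hx => by simpa using (hcon n hn hnc 1 o x hx).1
  obtain ⟨δ₁, δ₂, hδ⟩ := hC.endo (fun x => g 1 x) (fun x hx => (hfg 1 x o hx).2.1)
    (fun x hx y hy => by simpa using (hmul 1 o x hx 1 o y hy).2)
    fun n hn hnc x hx => by simpa using (hcon n hn hnc 1 o x hx).2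
  have hφ : ∀ x ∈ V, ∀ y ∈ V, pr c * co t σ x y * (pr c)⁻¹ =
      co t σ (el c x (α₁, α₂) * el c y (γ₁, γ₂)) (el c x (β₁, β₂) * el c y (δ₁, δ₂)) := by
    intro x hx y hy
    have := hmul x hx 1 o 1 o y hy
    rw [mul_one, one_mul] at this
    rw [(hfg x y hx hy).2.2, this.1, this.2, hα x hx, hβ x hx, hγ y hy, hδ y hy]
    rfl
  obtain ⟨a, ha, ρ, h1, h2, -⟩ := hC.swap
  have e1 : nu c a ≠ 1 := fun e => hC.cV (by rw [← h2, e]; simp)
  let E : (Bool × Bool) × Bool × Bool → G := fun p => co t σ (el c a p.1) (el c a p.2)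
  have m := el_mem hC.cN ha
  have Einj : ∀ p q, E p = E q → p = q := fun p q e =>
    have := co_inj hA C h (m _) (m _) (m _) (m _) e
    Prod.ext (el_inj hA hC.cN cc ha e1 this.1) (el_inj hA hC.cN cc ha e1 this.2)
  have Eφ : ∀ p, pr c * E p * (pr c)⁻¹ = E (act (α₁, α₂) (β₁, β₂) (γ₁, γ₂) (δ₁, δ₂) p) := by
    intro p
    simp only [E, act]
    rw [hφ _ (m _) _ (m _)]
    simp only [el_el hA hC.cN cc ha, el_mul hA hC.cN ha]
  have Et : ∀ p, t * E p * t⁻¹ = E p.swap := fun p => co_t hA C h (m _) (m _)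
  have hb := bits (α₁, α₂) (β₁, β₂) (γ₁, γ₂) (δ₁, δ₂) (fun p => Einj _ _ (by
      rw [← Eφ, ← Eφ]
      calc _ = (pr c * pr c) * E p * (pr c * pr c)⁻¹ := by group
        _ = _ := by rw [pp]; group))
    fun p => Einj _ _ (by
      have hel : ∀ r, el c a (mulR (true, true) r) = c * el c a r * c⁻¹ := fun r => by
        rw [← el_el hA hC.cN cc ha]
        show el c a r * nu c (el c a r) = _
        rw [(vcomm hA (m r) (nu_mem hC.cN (m r))).eq, nu, mul_assoc, hA.sq _ (m r), mul_one]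
      rw [← Eφ, ← Et, ← Eφ, ← Et]
      simp only [E, hel]
      have hd : ι c = pr c * (t * pr c * t) := by
        rw [← pr_diag hA C h P hzc, inv_eq_of_mul_eq_one_right (tt C)]
      rw [← co_n C h hC.cN (m _) (m _), hd]
      group)
  obtain ⟨h3, h4, h5, h6⟩ := hb
  simp only [Prod.mk.injEq] at h3 h4 h5 h6
  obtain ⟨rfl, rfl⟩ := h4
  obtain ⟨rfl, rfl⟩ := h6
  subst h3 h5
  exact ⟨α₂, β₂, hφ⟩

theorem Pr.not_field (hA : HypA V z b S) (hC : HypC V z c) (C : Cfg t ι ⊥) (h : Spl V t ι σ)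
    (P : Pr V z ι σ pr) (hf : ∀ x ∈ V, ∀ y ∈ V, pr c * co t σ x y * (pr c)⁻¹ =
      co t σ (fld c (x, y)).1 (fld c (x, y)).2) : False := by
  have hzc := zc hC
  obtain ⟨L, hL, hs, x, hx, hne⟩ := hC.field
  have key : ∀ L : List A, (∀ d ∈ L, d ∈ cl V c) → ∀ p : A × A, p.1 ∈ V → p.2 ∈ V →
      (L.foldr fld p).1 ∈ V ∧ (L.foldr fld p).2 ∈ V ∧
        (L.map pr).prod * co t σ p.1 p.2 * (L.map pr).prod⁻¹ =
          co t σ (L.foldr fld p).1 (L.foldr fld p).2 := by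
    intro L
    induction L with
    | nil => intro _ p h1 h2; simp [h1, h2]
    | cons d L ih =>
      intro hd p h1 h2
      obtain ⟨h3, h4, h5⟩ := ih (fun e he => hd e (List.mem_cons_of_mem _ he)) p h1 h2
      obtain ⟨n, hn, rfl⟩ := hd d List.mem_cons_self
      have hdN : n * c * n⁻¹ ∈ normalizer (V : Set A) := mul_mem (mul_mem hn hC.cN) (inv_mem hn)
      simp only [List.foldr_cons, List.map_cons, List.prod_cons]
      generalize L.foldr fld p = r at h3 h4 h5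
      refine ⟨mul_mem h3 (nu_mem hdN h4), mul_mem (mul_mem h4 (nu_mem hdN h3)) (nu_mem hdN h4), ?_⟩
      have h6 := co_n C h (inv_mem hn) h3 h4
      have h7 := cmem (inv_mem hn) h3
      have h8 := cmem (inv_mem hn) h4
      have h9 := co_n C h hn (mul_mem h7 (nu_mem hC.cN h8))
        (mul_mem (mul_mem h8 (nu_mem hC.cN h7)) (nu_mem hC.cN h8))
      have h10 := hf _ h7 _ h8
      simp only [fld] at h10 ⊢
      rw [← h10, ← h6, ← h5] at h9
      rw [P.conj c hzc n]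
      refine Eq.trans ?_ (h9.trans ?_)
      · rw [map_inv]; group
      · congr 1 <;> (simp only [nu]; group)
  set y := (L.map pr).prod with hy
  have o := V.one_mem
  have hyN : y ∈ normalizer (Wg σ ι V : Set G) := mem_normalizer_fintype fun w hw => by
    obtain ⟨u, hu, v, hv, rfl⟩ := co_surj hA h hw
    obtain ⟨h1, h2, h3⟩ := key L hL (u, v) hu hv
    exact h3 ▸ co_mem hA h h1 h2
  have h1 : ∀ u ∈ V, y * (t * σ u * t⁻¹) * y⁻¹ = t * (y * σ u * y⁻¹) * t⁻¹ := by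
    intro u hu
    obtain ⟨h1, h2, h3⟩ := key L hL (u, 1) hu o
    obtain ⟨-, -, h4⟩ := key L hL (1, u) o hu
    rw [co_l h] at h3
    rw [co_r h, hs u hu] at h4
    rw [h3, h4, co_t hA C h h1 h2]
    rfl
  have h2 : ∀ w ∈ Wg σ ι V, y * (t * w * t⁻¹) * y⁻¹ = t * (y * w * y⁻¹) * t⁻¹ := by
    intro w hw
    obtain ⟨u, hu, v, hv, rfl⟩ := co_surj hA h hw
    have h3 := h1 u hu
    have h4 := h1 v hv
    simp only [co]
    calc _ = y * (t * σ u * t⁻¹) * y⁻¹ * (y * ((t * t) * σ v * (t * t)⁻¹) * y⁻¹) := by group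
      _ = t * (y * σ u * y⁻¹) * t⁻¹ * ((t * t) * (y * σ v * y⁻¹) * (t * t)⁻¹) := by
        rw [h3, tt C]; group
      _ = t * (y * σ u * y⁻¹) * t⁻¹ * (t * (t * (y * σ v * y⁻¹) * t⁻¹) * t⁻¹) := by group
      _ = _ := by rw [← h4]; group
  have htN : t ∈ normalizer (Wg σ ι V : Set G) := mem_normalizer_fintype fun w hw => by
    obtain ⟨u, hu, v, hv, rfl⟩ := co_surj hA h hw
    exact co_t hA C h hu hv ▸ co_mem hA h hv hu
  obtain ⟨n, hnN, hn⟩ := h.exists_act hA C hC hyN (mem_centralizer_iff.2 fun w hw => by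
    have := h2 _ ((mem_normalizer_iff.1 (inv_mem (mul_mem htN hyN)) w).1 hw)
    calc _ = t * (y * ((t * y)⁻¹ * w * (t * y)⁻¹⁻¹) * y⁻¹) * t⁻¹ * (y * t * y⁻¹ * t⁻¹) := by group
      _ = _ := by rw [← this]; group)
  obtain ⟨h3, h4, h5⟩ := key L hL (x, x) hx hx
  rw [co_d h hx, hn x hx, ← co_d h (cmem hnN hx)] at h5
  exact hne (isConj_iff.2 ⟨n, (co_inj hA C h (cmem hnN hx) (cmem hnN hx) h3 h4 h5).1⟩)

/-- Coordinates `(x, y) = σ x · t σ(y) t⁻¹` on `W`. The action `φ` of `c'` has four entries commuting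
with `C_N(c)`, so `φ ∈ M₂({0, 1, ν, 1 + ν})` (`endo`). With `τ` the swap, `φ² = 1`, `(φ τ)² = 1 + ν`;
evaluate on `a`, `e = ν a ≠ 1`, `e ≠ a`, `ν e = 1` from `swap` (finite check on 8 bits): `φ = 1 + ν ψ`,
`ψ = diag(1,0), diag(0,1), (1 1; 1 0), (0 1; 1 1)`. `pr (c e) = ι a c' (ι a)⁻¹` is `c' e'` in the first and
last case, `c' e''` otherwise; then conjugation by `ι ρ` gives `e' c'' = c' e''`, `e = c`: impossible.
In the last case all `d'`, `d ∈ cl V c`, act as `fld d`; the product `y` over `L` commutes with `τ` on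
`W`, `exists_act` makes `(L.foldr fld (x, x)).1` conjugate to `x`. -/
theorem Pr.right (hA : HypA V z b S) (hC : HypC V z c) (C : Cfg t ι ⊥) (h : Spl V t ι σ)
    (P : Pr V z ι σ pr) : ∀ d ∈ cl V c, ∀ v ∈ V, pr d * σ v * (pr d)⁻¹ = σ (d * v * d⁻¹) ∧
      Commute (pr d) (t * σ v * t⁻¹) := by
  have hzc := zc hC
  have cc := sq_of_conj hA hzc
  have pp := pr_sq hA h P hzc
  have o := V.one_mem
  obtain ⟨p, q, hφ⟩ := P.matrix hA hC C h
  obtain ⟨a, ha, ρ, h1, h2, h3⟩ := hC.swap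
  have he := nu_mem hC.cN ha
  have nn := nu_nu hA cc ha
  have n1 : nu c 1 = 1 := by simp [nu]
  have hpq : p ≠ q := by
    rintro rfl
    have aa := hA.sq a ha
    have ee := hA.sq _ he
    have e1 : a * c * a⁻¹ = c * nu c a := by
      rw [nu, inv_eq_of_mul_eq_one_right aa, ← mul_assoc, ← mul_assoc, ← mul_assoc, cc, one_mul,
        inv_eq_of_mul_eq_one_right cc]
    have ce : Commute c (nu c a) := by
      have : c * nu c a * c⁻¹ * nu c a = nu c a * nu c a := nn.trans ee.symm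
      exact mul_inv_eq_iff_eq_mul.1 (mul_right_cancel this)
    have e2 : pr c * ι a * (pr c)⁻¹ = co t σ a (a * nu c a) := by
      rw [← co_d h ha, hφ a ha a ha]
      cases p <;> simp [el, mul_assoc, ee, (vcomm hA he ha).eq]
    have e3 : pr (c * nu c a) = t * σ (nu c a) * t⁻¹ * pr c := by
      have := co_mul hA h ha ha ha (mul_mem ha he)
      rw [← e2, co_d h ha, aa, ← mul_assoc a, aa, one_mul, co_r h] at this
      rw [← e1, P.conj c hzc a, ← this, ← map_inv, inv_eq_of_mul_eq_one_right aa]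
      group
    have e4 : pr (c * nu c a) = t * pr c * t⁻¹ * σ (nu c a) := by
      have hz : IsConj z (c * nu c a) := hzc.trans (isConj_iff.2 ⟨a, e1⟩)
      have e5 : ρ * (c * nu c a) * ρ⁻¹ = c * nu c a := by
        calc _ = ρ * c * ρ⁻¹ * (ρ * nu c a * ρ⁻¹) := by group
          _ = _ := by rw [h2, h3, ce.eq]
      have e6 := P.conj _ hz ρ
      have e7 := P.conj _ h1 ρ
      have e8 := P.conj _ hzc ρ
      rw [h2, P.eq _ he h1] at e7
      rw [h3, P.eq _ he h1] at e8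
      rw [e5] at e6
      rw [e6, e3]
      have := (C.tι ρ).eq
      calc _ = (ι ρ * t) * σ (nu c a) * (ι ρ * t)⁻¹ * (ι ρ * pr c * (ι ρ)⁻¹) := by group
        _ = t * (ι ρ * σ (nu c a) * (ι ρ)⁻¹) * t⁻¹ * (ι ρ * pr c * (ι ρ)⁻¹) := by
          rw [← this]; group
        _ = _ := by rw [← e7, ← e8]
    have e5 : t * pr c * t⁻¹ = pr c * ι c := by
      rw [← pr_diag hA C h P hzc, ← mul_assoc (pr c), pp, one_mul]
    have e6 : pr c * σ (nu c a) = σ (nu c a) * pr c := by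
      have := hφ _ he 1 o
      simp only [el, nn, n1, Bool.cond_self, cond_true, cond_false, mul_one, co_l h] at this
      exact mul_inv_eq_iff_eq_mul.1 this
    have e7 : ι c * σ (nu c a) = σ (nu c a) * ι c := by
      have := h.conj c hC.cN _ he
      rw [ce.eq, mul_inv_cancel_right] at this
      exact mul_inv_eq_iff_eq_mul.1 this
    have e8 := (pr_comm P hzc ce.symm).eq
    rw [e4, e5, tσ hA h he, mul_assoc, e7, ← mul_assoc, e6, mul_assoc, mul_assoc, e8] at e3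
    exact hC.cV (C.inj (mul_left_cancel (mul_left_cancel e3)) ▸ he)
  have hc : ∀ v ∈ V, pr c * σ v * (pr c)⁻¹ = σ (c * v * c⁻¹) ∧
      pr c * (t * σ v * t⁻¹) * (pr c)⁻¹ = t * σ v * t⁻¹ := by
    cases p <;> cases q
    · exact absurd rfl hpq
    · exfalso
      refine P.not_field hA hC C h fun x hx y hy => ?_
      rw [hφ x hx y hy]
      have := (vcomm hA hy (nu_mem hC.cN hx)).eq
      simp [el, fld, this, mul_assoc]
    · intro v hv
      have h4 := hφ v hv 1 o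
      have h5 := hφ 1 o v hv
      simp only [el, n1, Bool.cond_self, cond_true, cond_false, mul_one, one_mul, co_l h, co_r h,
        Bool.not_true] at h4 h5
      refine ⟨h4.trans ?_, h5⟩
      rw [(vcomm hA hv (nu_mem hC.cN hv)).eq, nu, mul_assoc, hA.sq v hv, mul_one]
    · exact absurd rfl hpq
  rintro _ ⟨n, hn, rfl⟩ v hv
  have hv' := cmem (inv_mem hn) hv
  obtain ⟨h4, h5⟩ := hc _ hv'
  have h6 := h.conj _ (inv_mem hn) v hv
  have h7 := h.conj _ hn _ (cmem hC.cN hv')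
  have h8 := (C.tι n).eq
  rw [← h6, map_inv] at h4 h5
  rw [P.conj c hzc n]
  constructor
  · rw [← h4] at h7
    refine Eq.trans ?_ (h7.trans ?_)
    · group
    · congr 1; group
  · refine mul_inv_eq_iff_eq_mul.1 ?_
    calc _ = ι n * (pr c * ((t * ι n)⁻¹ * (t * t * σ v * (t * t)⁻¹) * (t * ι n)) * (pr c)⁻¹) *
          (ι n)⁻¹ := by group
      _ = ι n * (pr c * (t * ((ι n)⁻¹ * σ v * (ι n)⁻¹⁻¹) * t⁻¹) * (pr c)⁻¹) * (ι n)⁻¹ := by
        rw [tt C, h8, mul_inv_rev, inv_eq_of_mul_eq_one_right (tt C)]; group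
      _ = (ι n * t) * ((ι n)⁻¹ * σ v * (ι n)⁻¹⁻¹) * (ι n * t)⁻¹ := by rw [h5]; group
      _ = _ := by rw [← h8]; group

end CL.WR
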