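import Cfsg.Agent.INV.WR.J4E
import Cfsg.Agent.S0365

set_option autoImplicit false

namespace CL.WR

open Cfsg Subgroup CL.J4 CL.J4.Uq CL.Golay CL.MAut CL.MSS

variable {G : Type*} [Group G] {z : G} {V : Subgroup G} {θ : Finset GolayPt → G} {χ χ' : M24 →* G}
  {B : Subgroup G} {τ : G} {Q : Subgroup G} (D : JD z V θ χ χ' B τ Q)
include D

theorem JD.rep {a : G} (ha : orderOf a = 2) : ∃ (φ : G ≃* G) (b p q : G) (l : ℕ), φ b = a ∧ Pq V b p q l ∧
    l.Prime ∧ b ∈ V ∧ ¬ l ^ 2 ∣ Nat.card (centralizer ({b} : Set G)) := by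
  rcases D.js.two a ha with h | h <;> obtain ⟨g, rfl⟩ := isConj_iff.1 h
  · obtain ⟨p, q, k⟩ := D.pq_z
    exact ⟨MulAut.conj g, _, _, _, _, rfl, k, by decide, D.js.toMS.z_mem, by rewrite [D.js.card_H]; norm_num⟩
  · obtain ⟨q, k⟩ := D.pq_b
    exact ⟨MulAut.conj g, _, _, _, _, rfl, k, by decide, D.js.toMS.t_mem, by rewrite [D.js.toMS.card_cent_t]; norm_num⟩

theorem JD.hypA : ∃ S, HypA V z (θ (E.setOf D2)) S := by
  have := D.finite
  have m := D.js.toMS
  obtain ⟨T, hT, hV⟩ := exists_sylIn_ge (H := normalizer (V : Set G) ⊓ centralizer {z}) (isPGroup_of_elemAb m.elemAb)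
    (le_inf le_normalizer fun v hv => mem_centralizer_singleton_iff.2 (m.comm_V hv m.z_mem))
  have c : Nat.card T = 2 ^ 21 := by
    rw [hT.card_eq_pow_factorization, m.card_N_inf_cent, show 2 ^ 11 * 138240 = 2 ^ 21 * 135 by norm_num,
      Nat.factorization_eq_of_coprime_left (by norm_num) (by simp), Nat.prime_two.factorization_pow,
      Finsupp.single_eq_same]
  have hS : SylIn 2 T ⊤ := ⟨le_top, hT.pgroup, fun U hU h1 _ => (eq_of_le_of_card_ge h1 (by
    obtain ⟨k, hk⟩ := IsPGroup.iff_card.1 hU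
    rw [c, hk]
    exact Nat.pow_le_pow_right (by decide) (not_lt.1 fun hlt =>
      m.syl ((pow_dvd_pow 2 hlt).trans (hk ▸ card_subgroup_dvd_card _))))).symm⟩
  have hz : T ≤ centralizer {z} := hT.le.trans inf_le_right
  have hQ : Q ≤ T := (hS.of_le hz le_top).le_of_normalized D.lx.isPGroup
    (fun x hx => mem_centralizer_singleton_iff.2 (D.lx.z_comm x hx)) (hz.trans D.lx.centralizer_le_normalizer)
  refine ⟨hS.toSylowTop, D.simple, fun h => m.not_conj ?_, fun _ => m.sq_V, m.z_mem, m.t_mem, m.orderOf_z, m.orderOf_t,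
    m.not_conj, m.two, fun a ha => ?_, fun X h1 h2 => ?_, hV, hT.le.trans inf_le_left, fun x =>
      ⟨fun h => D.lx.self_cent x fun y hy => h.2 y (hQ hy), ?_⟩⟩
  · obtain ⟨x, -, y, -, e⟩ := D.lx.nonab
    exact absurd (h.is_comm.comm x y) e
  · obtain ⟨φ, b, p, q, l, rfl, k, -, hb, -⟩ := D.rep ha
    rw [cent_map, ← map_commutator]
    exact mem_map_of_mem _ (k.le_comm (fun v hv => m.comm_V hv hb) hb)
  · have e := Pq.elemAb h1
    obtain ⟨k, hk⟩ := IsPGroup.iff_card.1 (isPGroup_of_elemAb e)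
    rw [m.card_V, hk] at h2
    obtain ⟨Y, hY⟩ := Sylow.exists_subgroup_card_pow_prime (G := X) 2 (n := 11)
      (hk ▸ pow_dvd_pow 2 ((Nat.pow_le_pow_iff_right (by decide)).1 h2))
    obtain ⟨g, hg⟩ := m.eq_conj (X := Y.map X.subtype) (Pq.elemAb fun x hx => h1 x (map_subtype_le Y hx))
      ((card_map_of_injective X.subtype_injective).trans hY)
    exact (centralizer_le (map_subtype_le Y)).trans ((hg ▸ (m.map (MulAut.conj g)).cent_V).le.trans (map_subtype_le Y))
  · rintro (rfl | rfl)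
    · exact ⟨one_mem _, fun s _ => Commute.one_left s⟩
    · exact ⟨hV m.z_mem, fun s hs => (mem_centralizer_singleton_iff.1 (hz hs)).symm⟩

theorem JD.top_of {M : Subgroup G} (h : ∀ v ∈ V, orderOf v = 2 → centralizer {v} ≤ M) : M = ⊤ := by
  have m := D.js.toMS
  have := Cfsg.Agent.S0365.result
  obtain ⟨q, k⟩ := D.pq_b
  refine D.top M (fun s hs => h z m.z_mem m.orderOf_z (mem_centralizer_singleton_iff.2
    (m.comm_V (m.θ_mem hs) m.z_mem))) (fun g => ?_) ?_
  · refine (closure_le (M.comap χ')).2 (fun x hx => ?_) (((IsSimpleGroup.eq_bot_or_eq_top_of_normal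
      (normalClosure {toM p11}) inferInstance).resolve_left fun e => ?_).ge (mem_top g))
    · obtain ⟨_, rfl, hx⟩ := Group.mem_conjugatesOfSet_iff.1 hx
      obtain ⟨g, rfl⟩ := isConj_iff.1 hx
      exact h _ ((mem_normalizer_iff.1 (D.χ_mem g) _).1 m.t_mem)
        ((MulEquiv.orderOf_eq (MulAut.conj (χ' g)) _).trans m.orderOf_t)
        (mem_centralizer_singleton_iff.2 (by simpa [mul_assoc] using (k.pa.conj (χ' g)).eq))
    · have o := k.op
      rw [mem_bot.1 (e ▸ subset_normalClosure rfl : toM p11 ∈ ⊥), map_one, orderOf_one] at o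
      exact absurd o (by decide)
  · have e := D.ud.tact 11 (by decide)
    rw [show ac Uq.T0 11 = 11 by decide +kernel, α_small (by decide), ← α_small (θ := θ) (χ := χ) (c := 11) (by decide)] at e
    have v := (m.α_mem_V (c := 11) (by decide)).2 (by decide)
    exact h _ v (orderOf_eq_prime (by rw [sq, m.sq_V v]) fun e => absurd (m.α_eq_one (by decide) e) (by decide))
      (mem_centralizer_singleton_iff.2 (mul_inv_eq_iff_eq_mul.1 e))

theorem JD.hyp0 : Hyp0 G := by
  have := D.finite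
  have m := D.js.toMS
  refine ⟨fun φ => ?_, fun a ha X Y e c => ?_, fun a ha M h => ?_⟩
  · obtain ⟨a, e⟩ := (QuotientGroup.eq_one_iff (N := Cfsg.Inn G) φ).1
      ((Nat.card_eq_one_iff_unique.1 D.out).1.elim _ _)
    exact ⟨a, e.symm⟩
  · obtain ⟨φ, b, p, q, l, rfl, k, hl, hb, h2⟩ := D.rep ha
    have t : ∀ {X : Subgroup G}, X.comap φ.toMonoidHom ≤ zpowers b → X ≤ zpowers (φ b) := fun h x hx => by
      obtain ⟨x, rfl⟩ := φ.surjective x
      exact (MonoidHom.map_zpowers φ.toMonoidHom b).le (mem_map_of_mem _ (h hx))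
    exact (k.ind (X := X.comap φ.toMonoidHom) (Y := Y.comap φ.toMonoidHom) (fun v hv => m.comm_V hv hb) hl
      m.cent_V.le h2 (by
      rw [comap_sup_eq _ _ _ φ.surjective, e, cent_map, comap_map_eq_self_of_injective φ.injective])
      fun x hx y hy => (c _ hx _ hy).of_map φ.injective).imp t t
  · obtain ⟨φ, b, p, q, l, rfl, k, -, hb, -⟩ := D.rep ha
    rw [cent_map, ← map_commutator] at h
    have := D.top_of (M := M.comap φ.toMonoidHom) fun v hv o x hx =>
      h _ (mem_map_of_mem _ (k.le_comm (fun v hv => m.comm_V hv hb) hv)) ((φ.orderOf_eq v).trans o)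
        ((cent_map φ v).ge (mem_map_of_mem _ hx))
    exact eq_top_iff.2 fun x _ => φ.apply_symm_apply x ▸ this.ge (mem_top _)

end CL.WR
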