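import Cfsg.Agent.INV.WR.J4D
import Cfsg.Agent.SOLV.Basic

/-!
Pairs of elements of odd prime order in the centraliser of an involution of `V`.
-/

set_option autoImplicit false

namespace CL.WR

open Cfsg Subgroup CL.K CL.J4 CL.J4.Uq CL.J4.Ten CL.Golay CL.MAut CL.Orb
open scoped commutatorElement

variable {G : Type*} [Group G]

/-- two elements of order `l` of `N(V) ∩ C(a)` which move everything in `V` except `a` -/
structure Pq (V : Subgroup G) (a p q : G) (l : ℕ) : Prop where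
  pN : p ∈ normalizer (V : Set G)
  qN : q ∈ normalizer (V : Set G)
  pa : Commute p a
  qa : Commute q a
  op : orderOf p = l
  oq : orderOf q = l
  span : ∀ W : Subgroup G, (∀ v ∈ V, ⁅p, v⁆ ∈ W) → (∀ v ∈ V, ⁅q, v⁆ ∈ W) → V ≤ W
  fix : ∀ v ∈ V, (p * v * p⁻¹ = v ∨ p * v * p⁻¹ = v * a) → (q * v * q⁻¹ = v ∨ q * v * q⁻¹ = v * a) →
    v = 1 ∨ v = a

namespace Pq

theorem elemAb {X : Subgroup G} (h : ∀ x ∈ X, x * x = 1) : IsElementaryAbelian 2 X :=
  have i : ∀ x ∈ X, x⁻¹ = x := fun x hx => inv_eq_of_mul_eq_one_right (h x hx)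
  ⟨⟨⟨fun x y => Subtype.ext (by
    rw [coe_mul, coe_mul, ← i _ (mul_mem x.2 y.2), mul_inv_rev, i _ x.2, i _ y.2])⟩⟩, fun x hx => (sq x).trans (h x hx)⟩

variable {V : Subgroup G} {a p q : G} {l : ℕ} (h : Pq V a p q l) (hV : ∀ v ∈ V, Commute v a)
include h hV

theorem le_comm : V ≤ ⁅centralizer ({a} : Set G), centralizer ({a} : Set G)⁆ :=
  h.span _ (fun v hv => commutator_mem_commutator (mem_centralizer_singleton_iff.2 h.pa)
    (mem_centralizer_singleton_iff.2 (hV v hv))) fun v hv => commutator_mem_commutator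
      (mem_centralizer_singleton_iff.2 h.qa) (mem_centralizer_singleton_iff.2 (hV v hv))

variable [Finite G] (hl : l.Prime) (hc : centralizer (V : Set G) ≤ V)
  (h2 : ¬ l ^ 2 ∣ Nat.card (centralizer ({a} : Set G))) {X Y : Subgroup G}
  (e : X ⊔ Y = centralizer ({a} : Set G)) (c : ∀ x ∈ X, ∀ y ∈ Y, Commute x y)
include hl hc h2 e c

theorem ind_aux (d : l ∣ Nat.card X) : Y ≤ zpowers a := fun y hy => by
  have := Fact.mk hl
  obtain ⟨x, hx⟩ := exists_prime_orderOf_dvd_card' l d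
  have n : centralizer {a} ≤ normalizer (X : Set G) := e ▸ sup_le le_normalizer
    fun y hy => centralizer_le_normalizer _ fun x hx => c x hx y hy
  have k : ∀ r, Commute r a → orderOf r = l → r ∈ centralizer {y} := fun r h1 h3 => by
    obtain ⟨g, j, -, -, f⟩ := sylow_conj hl h2 (a := ⟨x, e.le (mem_sup_left x.2)⟩)
      (b := ⟨r, mem_centralizer_singleton_iff.2 h1⟩) (by rw [orderOf_mk, orderOf_coe, hx]) (by rwa [orderOf_mk])
    exact mem_centralizer_singleton_iff.2 (c r ((mem_normalizer_iff.1 (n g.2) r).2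
      (by rw [show (g : G) * r * (g : G)⁻¹ = (x : G) ^ j from congrArg Subtype.val f]; exact pow_mem x.2 j)) y hy)
  have k2 : ∀ r, Commute r a → orderOf r = l → ∀ v ∈ V, ⁅r, v⁆ ∈ centralizer {y} := fun r h1 h3 v hv => by
    rw [show ⁅r, v⁆ = r * (v * r * v⁻¹)⁻¹ by group]
    exact mul_mem (k r h1 h3) (inv_mem (k _ (((hV v hv).mul_left h1).mul_left (hV v hv).inv_left)
      ((MulEquiv.orderOf_eq (MulAut.conj v) r).trans h3)))
  have f : ∀ {r}, r ∈ centralizer {y} → r * y * r⁻¹ = y := fun hr =>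
    mul_inv_eq_iff_eq_mul.2 (mem_centralizer_singleton_iff.1 hr)
  rcases h.fix y (hc fun v hv => mem_centralizer_singleton_iff.1 (h.span _ (k2 p h.pa h.op) (k2 q h.qa h.oq) hv))
    (.inl (f (k p h.pa h.op))) (.inl (f (k q h.qa h.oq))) with rfl | rfl
  exacts [one_mem _, mem_zpowers _]

theorem ind : X ≤ zpowers a ∨ Y ≤ zpowers a := by
  have d := card_sup_dvd_mul_of_le_normalizer (H := X) (K := Y)
    fun x hx => centralizer_le_normalizer _ fun y hy => (c x hx y hy).symm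
  rw [e] at d
  exact (hl.dvd_mul.1 ((h.op ▸ orderOf_dvd_natCard _ (mem_centralizer_singleton_iff.2 h.pa)).trans d)).symm.imp
    (h.ind_aux hV hl hc h2 (sup_comm X Y ▸ e) fun y hy x hx => (c x hx y hy).symm) (h.ind_aux hV hl hc h2 e c)

end Pq

/-- the action on syndromes -/
noncomputable def aS (P σ : ℕ) : ℕ := syn (img24 P (Nat.shiftLeft σ 12))

/-- moves inside a coset of the commutator space -/
noncomputable def mv (P Q δ j σ : ℕ) : ℕ :=
  cond (Nat.beq j 0) (aS P σ) (cond (Nat.beq j 1) (aS Q σ) (Nat.xor σ δ))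

/-- test for `Pq` -/
noncomputable def pqOK (a P Q l : ℕ) : Bool :=
  okM P && okM Q && (Nat.beq (pow24 P l) one24 && !Nat.beq (pow24 P 1) one24) &&
    (Nat.beq (pow24 Q l) one24 && !Nat.beq (pow24 Q 1) one24) && Nat.beq (aS P a) a && Nat.beq (aS Q a) a &&
    force (Nat.xor 3 (aS P 3)) fun δ => orb (mv P Q δ) (fun c => c) 3 0 2100 fun S _ =>
      allLt2 (fun σ => !okN (Nat.shiftLeft σ 12) || S.testBit σ && force (aS P σ) fun x => force (aS Q σ) fun y =>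
        decide ((x = σ ∨ x = σ ^^^ a) → (y = σ ∨ y = σ ^^^ a) → σ = 0 ∨ σ = a)) 64 64

theorem ok_syn {n : ℕ} (h : okN n = true) : okN (syn n <<< 12) = true :=
  have l := shift_lt (syn_lt (okN_iff.1 h).1)
  okN_iff.2 ⟨l, even_of_Syn_eq (by rw [Syn_setOf l, Syn_setOf (okN_iff.1 h).1, syn_shiftLeft]) (okN_iff.1 h).2⟩

theorem ok_aS {P σ : ℕ} (hP : I M24 P) (h : okN (σ <<< 12) = true) : okN (aS P σ <<< 12) = true :=
  ok_syn (okN_img hP h)

theorem ok_xor {a b : ℕ} (ha : okN (a <<< 12) = true) (hb : okN (b <<< 12) = true) :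
    okN ((a ^^^ b) <<< 12) = true := Nat.shiftLeft_xor_distrib ▸ okN_xor ha hb

variable {z : G} {V : Subgroup G} {θ : Finset GolayPt → G} {χ χ' : M24 →* G} {B : Subgroup G}
  {τ : G} {Q : Subgroup G} (D : JD z V θ χ χ' B τ Q)
include D

theorem JD.θ_syn {n : ℕ} (h : okN n = true) : θ (E.setOf (syn n <<< 12)) = θ (E.setOf n) := by
  rw [D.js.toMS.θ_set_iff (ok_syn h) h, syn_shiftLeft]

theorem JD.θ_aS {P σ : ℕ} (hP : I M24 P) (h : okN (σ <<< 12) = true) :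
    χ' (toM P) * θ (E.setOf (σ <<< 12)) * (χ' (toM P))⁻¹ = θ (E.setOf (aS P σ <<< 12)) := by
  rw [D.ud.χ_conj _ _ (okN_iff.1 h).2, ← (R_toM hP).setOf_img]
  exact (D.θ_syn (okN_img hP h)).symm

theorem JD.θ_xor {a b : ℕ} (ha : okN (a <<< 12) = true) (hb : okN (b <<< 12) = true) :
    θ (E.setOf ((a ^^^ b) <<< 12)) = θ (E.setOf (a <<< 12)) * θ (E.setOf (b <<< 12)) := by
  rw [Nat.shiftLeft_xor_distrib, E.setOf_xor, D.js.θ_mul _ _ (okN_iff.1 ha).2 (okN_iff.1 hb).2]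

theorem JD.θ_inj {a b : ℕ} (ha : okN (a <<< 12) = true) (hb : okN (b <<< 12) = true)
    (e : θ (E.setOf (a <<< 12)) = θ (E.setOf (b <<< 12))) : a = b := by
  rwa [D.js.toMS.θ_set_iff ha hb, syn_shiftLeft, syn_shiftLeft] at e

theorem JD.θ_zero : θ (E.setOf (0 <<< 12)) = 1 := by rw [Nat.zero_shiftLeft, E.setOf_zero, D.js.toMS.θ_empty]

theorem JD.mask {v : G} (hv : v ∈ V) : ∃ σ < 4096, okN (σ <<< 12) = true ∧ θ (E.setOf (σ <<< 12)) = v := by
  obtain ⟨s, hs, rfl⟩ := (D.js.mem_V v).1 hv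
  exact D.js.toMS.exists_θ hs

theorem JD.pq {n P P' l : ℕ} [Fact l.Prime] (hn : okN n = true) (h : pqOK (syn n) P P' l = true) :
    Pq V (θ (E.setOf n)) (χ' (toM P)) (χ' (toM P')) l := by
  simp only [pqOK, force_eq, Bool.and_eq_true, Nat.beq_eq] at h
  obtain ⟨⟨⟨⟨⟨⟨i1, i2⟩, o1⟩, o2⟩, a1⟩, a2⟩, h⟩ := h
  replace i1 := I.of_okM i1
  replace i2 := I.of_okM i2
  obtain ⟨A, S, _, hA, hk, -⟩ := orb_spec h
  have hk := fun σ (h1 : σ < 4096) (h2 : okN (σ <<< 12) = true) => Bool.and_eq_true_iff.1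
    ((Bool.or_eq_true_iff.1 (all4096 hk h1)).resolve_left (by simpa using h2))
  have hn' := ok_syn hn
  have m : ∀ {σ}, okN (σ <<< 12) = true → θ (E.setOf (σ <<< 12)) ∈ V := fun h => D.js.toMS.θ_mem (okN_iff.1 h).2
  have c : ∀ {P}, I M24 P → aS P (syn n) = syn n → Commute (χ' (toM P)) (θ (E.setOf n)) := fun i e => by
    rw [← D.θ_syn hn]; exact mul_inv_eq_iff_eq_mul.1 (by rw [D.θ_aS i hn', e])
  have o : ∀ {P}, I M24 P → pow24 P l = one24 ∧ (!Nat.beq (pow24 P 1) one24) = true →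
      orderOf (χ' (toM P)) = l := fun i e => by
    rw [orderOf_injective χ' D.ud.χ_inj, ← orderOf_coe]
    exact R.orderOf_eq_prime (R_toM i) (Bool.and_eq_true_iff.2 ⟨Nat.beq_eq.mpr e.1, e.2⟩)
  refine ⟨D.χ_mem _, D.χ_mem _, c i1 a1, c i2 a2, o i1 o1, o i2 o2, fun W w1 w2 v hv => ?_, fun v hv f1 f2 => ?_⟩
  · obtain ⟨σ, h1, h2, rfl⟩ := D.mask hv
    obtain ⟨d, hd, rfl⟩ := (hA.bits σ).1 (hk σ h1 h2).1
    have k : ∀ {P}, I M24 P → (∀ v ∈ V, ⁅χ' (toM P), v⁆ ∈ W) → ∀ {c}, okN (c <<< 12) = true →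
        θ (E.setOf (aS P c <<< 12)) * (θ (E.setOf (c <<< 12)))⁻¹ ∈ W := fun i w c h => D.θ_aS i h ▸ w _ (m h)
    have o3 : okN (3 <<< 12) = true := by decide +kernel
    suffices okN (d <<< 12) = true ∧ θ (E.setOf (d <<< 12)) ∈ W from this.2
    clear h1 h2 hv
    have r := hA.reach d hd
    clear hd
    induction r with
    | base => exact ⟨by decide +kernel, D.θ_zero ▸ one_mem _⟩
    | step c j _ hj ih =>
      interval_cases j
      · exact ⟨ok_aS i1 ih.1, (mul_mem_cancel_right (inv_mem ih.2)).1 (k i1 w1 ih.1)⟩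
      · exact ⟨ok_aS i2 ih.1, (mul_mem_cancel_right (inv_mem ih.2)).1 (k i2 w2 ih.1)⟩
      · have o4 := ok_xor o3 (ok_aS i1 o3)
        refine ⟨ok_xor ih.1 o4, (D.θ_xor ih.1 o4).symm ▸ mul_mem ih.2 ?_⟩
        rw [Nat.xor_comm, D.θ_xor (ok_aS i1 o3) o3, ← D.js.toMS.θ_inv (okN_iff.1 o3).2]
        exact k i1 w1 o3
  · obtain ⟨σ, h1, h2, rfl⟩ := D.mask hv
    rw [← D.θ_syn hn] at f1 f2 ⊢
    rw [← D.θ_xor h2 hn', D.θ_aS i1 h2] at f1
    rw [← D.θ_xor h2 hn', D.θ_aS i2 h2] at f2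
    exact (of_decide_eq_true (hk σ h1 h2).2 (f1.imp (D.θ_inj (ok_aS i1 h2) h2) (D.θ_inj (ok_aS i1 h2) (ok_xor h2 hn')))
      (f2.imp (D.θ_inj (ok_aS i2 h2) h2) (D.θ_inj (ok_aS i2 h2) (ok_xor h2 hn')))).imp
        (fun e => by rw [e, D.θ_zero]) fun e => by rw [e]

theorem JD.pq_z : ∃ p q, Pq V z p q 5 :=
  have : Fact (Nat.Prime 5) := ⟨by decide⟩
  ⟨_, _, D.js.z_eq ▸ D.pq (P := 137165621206221161877193814715352517) (P' := 558643953962190075626911748706222788)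
    (by decide +kernel) (by decide +kernel)⟩

/-- an element of order 11 fixing the duad -/
def p11 : ℕ := 976649613038793975050004582139896896

theorem JD.pq_b : ∃ q, Pq V (θ (E.setOf D2)) (χ' (toM p11)) q 11 :=
  have : Fact (Nat.Prime 11) := ⟨by decide⟩
  ⟨_, D.pq (P' := 979573779286594211737929582501734592) (by decide +kernel) (by decide +kernel)⟩

end CL.WR
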