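import Cfsg.Agent.INV.WR.J4X
import Cfsg.Agent.INV.WR.J4E
import Cfsg.Agent.SOLV.Primitive

set_option autoImplicit false

namespace CL.WR

open Cfsg Subgroup CL.K CL.J4 CL.J4.Uq CL.J4.Ten CL.Golay CL.MAut

universe u

variable {G : Type*} [Group G] {z : G} {V : Subgroup G} {θ : Finset GolayPt → G} {χ χ' : M24 →* G}
  {B : Subgroup G} {τ : G} {Q : Subgroup G} (D : JD z V θ χ χ' B τ Q)
include D

theorem JD.fix_p11 {v : G} (hv : v ∈ V) (h : χ' (toM p11) * v * (χ' (toM p11))⁻¹ = v) : v = 1 ∨ v = θ (E.setOf D2) := by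
  obtain ⟨σ, h1, h2, rfl⟩ := D.mask hv
  have i : I M24 p11 := I.of_okM (by decide +kernel)
  rw [D.θ_aS i h2] at h
  have k := all4096 (p := fun σ => !okN (Nat.shiftLeft σ 12) || decide (aS p11 σ = σ → σ = 0 ∨ σ = 1141))
    (by decide +kernel) h1
  rcases of_decide_eq_true ((Bool.or_eq_true_iff.1 k).resolve_left (by simpa using h2))
    (D.θ_inj (ok_aS i h2) h2 h) with rfl | rfl
  · exact .inl D.θ_zero
  · exact .inr (by rw [← D.θ_syn (n := D2) (by decide +kernel), show syn D2 = 1141 by decide +kernel])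

theorem JD.conj_p11 {y : G} (h1 : Commute y (θ (E.setOf D2))) (h2 : orderOf y = 11) :
    ∃ x, Commute x (θ (E.setOf D2)) ∧ x * y * x⁻¹ = χ' (toM p11) := by
  have := D.finite
  obtain ⟨q, k⟩ := D.pq_b
  obtain ⟨g, j, j0, j1, e⟩ := sylow_conj (K := centralizer {θ (E.setOf D2)}) (p := 11) (by decide)
    (by rewrite [D.js.toMS.card_cent_t]; norm_num) (a := ⟨_, mem_centralizer_singleton_iff.2 k.pa⟩)
    (b := ⟨y, mem_centralizer_singleton_iff.2 h1⟩) (by rw [orderOf_mk, k.op]) (by rwa [orderOf_mk])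
  replace e : (g : G) * y * (g : G)⁻¹ = χ' (toM p11) ^ j := congrArg Subtype.val e
  have i : I M24 p11 := I.of_okM (by decide +kernel)
  have i' : I M24 15808018323562990747297881500753015 := I.of_okM (by decide +kernel)
  have o : okN D2 = true := by decide +kernel
  have n1 : Commute (χ' (toM 15808018323562990747297881500753015)) (θ (E.setOf D2)) :=
    mul_inv_eq_iff_eq_mul.1 (by
      rw [D.ud.χ_conj _ _ (okN_iff.1 o).2, ← (R_toM i').setOf_img]; exact congrArg (fun n => θ (E.setOf n)) (by decide +kernel))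
  have n2 : χ' (toM 15808018323562990747297881500753015) * χ' (toM p11) *
      (χ' (toM 15808018323562990747297881500753015))⁻¹ = χ' (toM p11) ^ 2 := by
    rw [mul_inv_eq_iff_eq_mul, sq, ← map_mul, ← map_mul, ← map_mul, ← toM_comp i' i, ← toM_comp i i,
      ← toM_comp (I.mul _ _ i i) i']
    exact congrArg (fun n => χ' (toM n)) (by decide +kernel)
  generalize χ' (toM 15808018323562990747297881500753015) = n at n1 n2
  have n3 : ∀ t : ℕ, n ^ t * χ' (toM p11) * (n ^ t)⁻¹ = χ' (toM p11) ^ 2 ^ t := fun t => by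
    induction t with
    | zero => simp
    | succ t ih => rw [pow_succ, pow_succ 2, pow_mul, ← ih, conj_pow, ← n2]; group
  obtain ⟨t, -, ht⟩ := (by decide : ∀ j < 11, 0 < j → ∃ t < 10, 2 ^ t * j % 11 = 1) j j1 j0
  refine ⟨n ^ t * g, (n1.pow_left t).mul_left (mem_centralizer_singleton_iff.1 g.2), ?_⟩
  rw [mul_inv_rev, mul_assoc (n ^ t), mul_assoc (n ^ t), ← mul_assoc (_ * y), e, ← mul_assoc, ← conj_pow, n3, ← pow_mul,
    ← pow_mod_orderOf, k.op, ht, pow_one]

theorem JD.inv_triv {α : G → G} (h1 : ∀ v ∈ V, α v ∈ V) (h2 : ∀ u ∈ V, ∀ v ∈ V, α (u * v) = α u * α v)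
    (h3 : ∀ v ∈ V, α (α v) = v)
    (h4 : ∀ v ∈ V, α (χ' (toM p11) * v * (χ' (toM p11))⁻¹) = χ' (toM p11) * α v * (χ' (toM p11))⁻¹) :
    ∀ v ∈ V, α v = v := by
  have := D.finite
  have m := D.js.toMS
  have : Fact (Nat.Prime 11) := ⟨by decide⟩
  obtain ⟨q, k⟩ := D.pq_b
  have a1 : α 1 = 1 := by simpa using h2 1 (one_mem _) 1 (one_mem _)
  have iv : ∀ v ∈ V, v⁻¹ = v := fun v hv => inv_eq_of_mul_eq_one_right (m.sq_V hv)
  let F : Subgroup G :=
    { carrier := {v | v ∈ V ∧ α v = v}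
      one_mem' := ⟨one_mem _, a1⟩
      mul_mem' := fun a b => ⟨mul_mem a.1 b.1, by rw [h2 _ a.1 _ b.1, a.2, b.2]⟩
      inv_mem' := fun a => by rwa [iv _ a.1] }
  have FV : F ≤ V := fun _ h => h.1
  let f : V →* G := MonoidHom.mk' (fun v => v * α v) fun a b => by
    rw [coe_mul, h2 _ a.2 _ b.2, mul_assoc, mul_assoc, ← mul_assoc (b : G), m.comm_V b.2 (h1 _ a.2), mul_assoc]
  have c1 : Nat.card V ≤ Nat.card F * Nat.card F := by
    rw [← f.ker.card_mul_index, index_ker, ← card_map_of_injective (K := f.ker) V.subtype_injective]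
    refine Nat.mul_le_mul (card_le_of_le ?_) (card_le_of_le ?_)
    · rintro _ ⟨v, hv, rfl⟩
      exact ⟨v.2, (eq_inv_of_mul_eq_one_right hv).trans (iv _ v.2)⟩
    · rintro _ ⟨v, rfl⟩
      exact ⟨mul_mem v.2 (h1 _ v.2), (h2 _ v.2 _ (h1 _ v.2)).trans (by rw [h3 _ v.2]; exact m.comm_V (h1 _ v.2) v.2)⟩
  have b : θ (E.setOf D2) ∈ F := by
    have e := h4 _ m.t_mem
    rw [k.pa.eq, mul_inv_cancel_right] at e
    refine ⟨m.t_mem, (D.fix_p11 (h1 _ m.t_mem) e.symm).resolve_left fun e => ?_⟩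
    have := h3 _ m.t_mem
    rw [e, a1] at this
    exact m.θ_ne_one (.inl (by decide +kernel)) this.symm
  have c2 := Prim.card_modEq_card_inf_centralizer (p := 11) (A := zpowers (χ' (toM p11))) (E := F)
    (.of_card (n := 1) (by rw [Nat.card_zpowers, k.op, pow_one])) (zpowers_le.2 (mem_normalizer_fintype fun v hv =>
      ⟨(mem_normalizer_iff.1 k.pN v).1 hv.1, by rw [h4 v hv.1, hv.2]⟩))
  have e : F ⊓ centralizer (zpowers (χ' (toM p11)) : Set G) = zpowers (θ (E.setOf D2)) := by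
    rw [zpowers_eq_closure (χ' _), centralizer_closure]
    refine le_antisymm (fun v hv => ?_) (zpowers_le.2 ⟨b, mem_centralizer_singleton_iff.2 k.pa.symm⟩)
    rcases D.fix_p11 hv.1.1 (mul_inv_eq_iff_eq_mul.2 (mem_centralizer_singleton_iff.1 hv.2).symm) with rfl | rfl
    exacts [one_mem _, mem_zpowers _]
  obtain ⟨i, hi, c3⟩ := (Nat.dvd_prime_pow Nat.prime_two).1 (m.card_V ▸ card_dvd_of_le FV)
  rw [e, Nat.card_zpowers, m.orderOf_t, c3] at c2
  rw [m.card_V, c3] at c1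
  obtain rfl : i = 11 := (by decide : ∀ i ≤ 11, 2 ^ 11 ≤ 2 ^ i * 2 ^ i → 2 ^ i ≡ 2 [MOD 11] → i = 11) i hi c1 c2
  exact fun v hv => ((eq_of_le_of_card_ge FV (by rw [c3, m.card_V])).ge hv).2

theorem JD.hypB : HypB.{u} V z (θ (E.setOf D2)) (χ' (toM r1)) 11 89 := by
  have := D.finite
  have m := D.js.toMS
  have cz : (cl V z).ncard = 1771 := by
    rw [← m.ncard_tetrads, ← m.z_eq, cl, m.orbit_eq even_T4 (by decide +kernel), show (E.setOf T4).card = 4 by decide +kernel]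
  have eb : cl V (θ (E.setOf D2)) = θ '' {s | s.card = 2} := by
    rw [cl, m.orbit_eq even_D2 (by decide +kernel), show (E.setOf D2).card = 2 by decide +kernel]
  have cb : (cl V (θ (E.setOf D2))).ncard = 276 := by rw [eb, m.ncard_duads]
  obtain ⟨p, q, k⟩ := D.pq_z
  obtain ⟨q', k'⟩ := D.pq_b
  refine ⟨m.card_V, by decide, fun v hv => ?_, by norm_num, by norm_num, by rewrite [m.card_N]; norm_num, by rw [cz]; decide,
    by rw [cb]; decide, fun X h1 h2 => .inl ?_, ⟨443, by norm_num, by decide, by rw [cz]; decide, fun i _ _ => by interval_cases i <;> decide⟩,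
    ⟨277, by norm_num, by decide, by rw [cb], fun i _ _ => by interval_cases i <;> decide⟩, fun v hv => ?_, ⟨_, k'.pN, k'.pa, by rw [k'.op]; decide,
      fun y _ h1 h2 => ?_, fun α h1 h2 h3 h4 _ => D.inv_triv h1 h2 h3 h4⟩, .inl ?_, D.ext.1, .inl D.ext.2, D.χ_mem _, ?_,
    fun h => ?_⟩
  · exact (m.mem_V_cases hv).imp_right fun h => h.symm.imp
      (fun ⟨d, h, e⟩ => (m.conj_tetrad h).elim fun g k => ⟨_, m.χ_mem_N g, k.trans e⟩)
      fun ⟨d, h, e⟩ => (m.conj_duad h).elim fun g k => ⟨_, m.χ_mem_N g, k.trans e⟩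
  · obtain ⟨g, rfl⟩ := m.eq_conj (Pq.elemAb h1) (h2.trans m.card_V)
    exact ⟨g⁻¹, fun x => by rw [mem_map_equiv]; simp⟩
  · rcases m.mem_V_cases hv with rfl | ⟨d, h, rfl⟩ | ⟨d, h, rfl⟩
    · exact one_mem _
    · exact subset_closure (eb ▸ ⟨d, h, rfl⟩)
    · obtain ⟨s, h1, h2⟩ := Finset.exists_subset_card_eq (s := d) (n := 2) (by omega)
      have h3 : (d \ s).card = 2 := by rw [Finset.card_sdiff_of_subset h1]; omega
      have e : d = symmDiff s (d \ s) := by
        rw [Disjoint.symmDiff_eq_sup Finset.disjoint_sdiff]; exact (Finset.union_sdiff_of_subset h1).symm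
      rw [e, m.θ_mul _ _ (even_of_two h2) (even_of_two h3)]
      exact mul_mem (subset_closure (eb ▸ ⟨_, h2, rfl⟩)) (subset_closure (eb ▸ ⟨_, h3, rfl⟩))
  · obtain ⟨x, h3, h4⟩ := D.conj_p11 h1 (h2.trans k'.op)
    exact ⟨x, m.cent_t (mem_centralizer_singleton_iff.2 h3), h3, h4⟩
  · rintro _ (rfl | rfl) v hv h
    exacts [k.fix v hv (h _ k.pN k.pa) (h _ k.qN k.qa), k'.fix v hv (h _ k'.pN k'.pa) (h _ k'.qN k'.qa)]
  · rw [← map_mul, ← toM_comp r1_in r1_in, show comp24 r1 r1 = one24 by decide +kernel, toM_one, map_one]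
  · have e := m.χ_mem_V (inv_mem_iff.1 ((mul_mem_cancel_right h).1 (D.diff (toM r1))))
    exact absurd ((R.comp24_eq_one_iff (R_toM r1_in) R.one).2 (by rw [e]; rfl)) (by decide +kernel)

end CL.WR
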