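import Cfsg.Agent.INV.WR.J4X
import Cfsg.Agent.SPOR.GolayMax
import Cfsg.Agent.S0365

/-!
The hypotheses needed to construct the two factors hold in the fourth Janko group.
-/

set_option autoImplicit false

namespace CL.WR

open Cfsg Subgroup CL.J4 CL.J4.Uq CL.Golay CL.MAut CL.K CL.F2M CL.J4.Ten
open scoped Pointwise symmDiff

/-- the commutator map on masks -/
def jcN (P n : ℕ) : ℕ := Nat.xor (img24 P n) n

/-- the map `fld` on masks -/
noncomputable def jcF (P a b : ℕ) (k : ℕ → ℕ → Bool) : Bool :=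
  force (jcN P a) fun x => force (jcN P b) fun y => force (Nat.xor a y) fun a' =>
    force (Nat.xor (Nat.xor b x) y) fun b' => k a' b'

theorem jcF_eq (P a b : ℕ) (k : ℕ → ℕ → Bool) :
    jcF P a b k = k (a ^^^ jcN P b) (b ^^^ jcN P a ^^^ jcN P b) := by
  rw [jcF, force_eq, force_eq, force_eq, force_eq]; rfl

/-- three steps -/
noncomputable def jcG (a b : ℕ) (k : ℕ → ℕ → Bool) : Bool :=
  jcF 980224387687010295957922729495201824 a b fun a b =>
    jcF 963721886883755259286232606933354528 a b fun a b => jcF r1 a b k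

theorem jc_field {σ : ℕ} (hσ : σ < 4096) (h0 : okN (σ <<< 12) = true) :
    (jcG 0 (σ <<< 12) fun a b => jcG (σ <<< 12) 0 fun a' b' =>
      Nat.beq (syn a) (syn b') && Nat.beq (syn b) (syn a')) = true := by
  have := all4096 (p := fun σ => force (Nat.shiftLeft σ 12) fun r => !okN r ||
    jcG 0 r fun a b => jcG r 0 fun a' b' => Nat.beq (syn a) (syn b') && Nat.beq (syn b) (syn a'))
    (by decide +kernel) hσ
  rwa [force_eq, show okN (Nat.shiftLeft σ 12) = true from h0] at this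

theorem jc_fix {σ : ℕ} (hσ : σ < 4096) (h0 : okN (σ <<< 12) = true)
    (h1 : syn (img24 27685742973212577630517466326157038 (σ <<< 12)) = σ)
    (h2 : syn (img24 970052041152093594282953189501179426 (σ <<< 12)) = σ) : σ = 0 := by
  have := all4096 (p := fun σ => force (Nat.shiftLeft σ 12) fun r => !okN r ||
    decide (syn (img24 27685742973212577630517466326157038 r) = σ →
      syn (img24 970052041152093594282953189501179426 r) = σ → σ = 0)) (by decide +kernel) hσ
  rw [force_eq, show okN (Nat.shiftLeft σ 12) = true from h0] at this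
  exact of_decide_eq_true this h1 h2

theorem jc_r1 : toM r1 ≠ 1 := fun e =>
  absurd ((R.comp24_eq_one_iff (R_toM r1_in) R.one).2 (by rw [e]; rfl)) (by decide +kernel)

variable {G : Type*} [Group G] {z : G} {V : Subgroup G} {θ : Finset GolayPt → G} {χ χ' : M24 →* G}
  {B : Subgroup G} {τ : G} {Q : Subgroup G}

theorem jc_cl {c x n : G} (hn : n ∈ normalizer (V : Set G)) (hx : x ∈ cl V c) :
    n * x * n⁻¹ ∈ cl V c := by
  obtain ⟨m, hm, rfl⟩ := hx
  exact ⟨_, mul_mem hn hm, by group⟩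

theorem jc_self (c : G) : c ∈ cl V c := ⟨1, one_mem _, by group⟩

/-- a pair of elements of `V` given by masks -/
def JcR (θ : Finset GolayPt → G) (p : G × G) (a b : ℕ) : Prop :=
  okN a = true ∧ okN b = true ∧ p = (θ (E.setOf a), θ (E.setOf b))

variable (D : JD z V θ χ χ' B τ Q)
include D

theorem JD.jc_xor {a b : ℕ} (ha : okN a = true) (hb : okN b = true) :
    θ (E.setOf (a ^^^ b)) = θ (E.setOf a) * θ (E.setOf b) := by
  rw [E.setOf_xor, D.js.θ_mul _ _ (okN_iff.1 ha).2 (okN_iff.1 hb).2]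

theorem JD.jc_nu {P n : ℕ} (hP : I M24 P) (hn : okN n = true) :
    nu (χ' (toM P)) (θ (E.setOf n)) = θ (E.setOf (jcN P n)) := by
  rw [nu, D.ud.χ_conj _ _ (okN_iff.1 hn).2, ← (R_toM hP).setOf_img, ← D.jc_xor (okN_img hP hn) hn]
  rfl

theorem JD.jc_step {P a b : ℕ} {p : G × G} {k : ℕ → ℕ → Bool} (hP : okM P = true) (h : JcR θ p a b)
    (e : jcF P a b k = true) : ∃ a' b', JcR θ (fld (χ' (toM P)) p) a' b' ∧ k a' b' = true := by
  obtain ⟨ha, hb, rfl⟩ := h
  have hP := I.of_okM hP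
  have h1 : okN (jcN P a) = true := okN_xor (okN_img hP ha) ha
  have h2 : okN (jcN P b) = true := okN_xor (okN_img hP hb) hb
  refine ⟨_, _, ⟨okN_xor ha h2, okN_xor (okN_xor hb h1) h2, ?_⟩, jcF_eq P a b k ▸ e⟩
  rw [fld, D.jc_nu hP ha, D.jc_nu hP hb, D.jc_xor ha h2, D.jc_xor (okN_xor hb h1) h2, D.jc_xor hb h1]

theorem JD.jc_three {a b : ℕ} {p : G × G} {k : ℕ → ℕ → Bool} (h : JcR θ p a b)
    (e : jcG a b k = true) : ∃ a' b', JcR θ ([χ' (toM r1), χ' (toM 963721886883755259286232606933354528),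
      χ' (toM 980224387687010295957922729495201824)].foldr fld p) a' b' ∧ k a' b' = true := by
  obtain ⟨_, _, h, e⟩ := D.jc_step (by decide +kernel) h e
  obtain ⟨_, _, h, e⟩ := D.jc_step (by decide +kernel) h e
  exact D.jc_step (by decide +kernel) h e

theorem JD.jc_mem {C P : ℕ} (h : (okM C && Nat.beq (conj24 C r1) P) = true) :
    χ' (toM P) ∈ cl V (χ' (toM r1)) := by
  obtain ⟨h1, h2⟩ := Bool.and_eq_true_iff.1 h
  refine ⟨_, D.χ_mem (toM C), ?_⟩
  rw [← map_inv, ← map_mul, ← map_mul, toM_of (g := toM C * toM r1 * (toM C)⁻¹)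
    ((R_toM (I.of_okM h1)).conj (R_toM r1_in)) (Nat.eq_of_beq_eq_true h2)]

theorem JD.jc_tet {d : Finset GolayPt} (hd : d.card = 4) : θ d ∈ cl V z :=
  let ⟨g, e⟩ := D.js.toMS.conj_tetrad hd
  ⟨_, D.js.toMS.χ_mem_N g, e⟩

theorem JD.jc_N {F : Subgroup G} (h1 : V ≤ F) (h2 : ∀ g, χ' g ∈ F) : normalizer (V : Set G) ≤ F :=
  fun n hn => by
    obtain ⟨v, hv, g, rfl⟩ := D.mem_N.1 hn
    exact mul_mem (h1 hv) (h2 g)

theorem JD.jc_gen {F : Subgroup G} (h1 : V ≤ F) (h2 : cl V (χ' (toM r1)) ⊆ F) :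
    normalizer (V : Set G) ≤ F := by
  have := Cfsg.Agent.S0365.result
  have e := (IsSimpleGroup.eq_bot_or_eq_top_of_normal (normalClosure {toM r1}) inferInstance).resolve_left
    fun e => jc_r1 (mem_bot.1 (e.le (subset_normalClosure rfl)))
  have : normalClosure {toM r1} ≤ F.comap χ' := (closure_le _).2 fun g hg => by
    obtain ⟨_, rfl, h⟩ := Group.mem_conjugatesOfSet_iff.1 hg
    obtain ⟨k, rfl⟩ := isConj_iff.1 h
    exact h2 ⟨_, D.χ_mem k, by rw [map_mul, map_mul, map_inv]⟩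
  exact D.jc_N h1 fun g => this (e.ge (mem_top g))

omit D in
theorem jc_sq : χ' (toM r1) * χ' (toM r1) = 1 := by
  rw [← map_mul, oneM (g := _ * _) ((R_toM r1_in).mul (R_toM r1_in)) (by decide +kernel), map_one]

theorem JD.jc_fixc {v : G} (hv : v ∈ V)
    (h : ∀ n ∈ normalizer (V : Set G), Commute n (χ' (toM r1)) → Commute n v) : v = 1 := by
  obtain ⟨σ, s1, s2, s3, -, s4⟩ := D.js.toMS.exists_mask hv
  have k : ∀ P, (okM P && Nat.beq (comp24 P r1) (comp24 r1 P)) = true →
      syn (img24 P (σ <<< 12)) = σ := fun P e => by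
    obtain ⟨h1, h2⟩ := Bool.and_eq_true_iff.1 e
    have a := R_toM (I.of_okM h1)
    exact s4 D.ud.toMW (I.of_okM h1) (h _ (D.χ_mem _) (Commute.map (eqM (g := _ * _) (k := _ * _)
      (a.mul (R_toM r1_in)) ((R_toM r1_in).mul a) (Nat.eq_of_beq_eq_true h2)) χ'))
  exact s3 (jc_fix s1 s2 (k _ (by decide +kernel)) (k _ (by decide +kernel)))

theorem JD.jc_uniq {X : Subgroup G} (h1 : ∀ x ∈ X, x * x = 1) (h2 : Nat.card V ≤ Nat.card X)
    (h3 : ∀ v ∈ V, Commute (χ' (toM r1)) v → v ∈ X) : X = V := by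
  have M := D.js.toMS
  have hc : ∀ x ∈ X, ∀ y ∈ X, x * y = y * x := fun x hx y hy => by
    rw [← mul_inv_eq_one, mul_inv_rev, inv_eq_of_mul_eq_one_right (h1 x hx),
      inv_eq_of_mul_eq_one_right (h1 y hy)]
    exact h1 _ (mul_mem hx hy)
  have h4 : θ (E.setOf D2) ∈ X := h3 _ M.t_mem (mul_inv_eq_iff_eq_mul.1 (by
    rw [D.ud.χ_conj _ _ even_D2, ← (R_toM r1_in).setOf_img, show img24 r1 D2 = D2 by decide +kernel]))
  obtain ⟨Y, hY⟩ := Sylow.exists_subgroup_card_pow_prime_of_le_card Nat.prime_two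
    (show IsPGroup 2 X from fun x => ⟨1, Subtype.ext ((sq _).trans (h1 x x.2))⟩) (M.card_V ▸ h2)
  have h5 := map_subtype_le Y
  have h6 := M.uniq (Y.map X.subtype) (fun x hx => M.cent_t (mem_centralizer_singleton_iff.2
    (hc _ (h5 hx) _ h4))) ⟨⟨⟨fun a b => Subtype.ext (hc _ (h5 a.2) _ (h5 b.2))⟩⟩,
      fun a ha => (sq a).trans (h1 a (h5 ha))⟩ ((card_map_of_injective X.subtype_injective).trans hY)
  rw [h6] at h5
  exact le_antisymm (fun x hx => M.cent_V.le fun v hv => hc _ (h5 hv) _ hx) h5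

theorem JD.jc_swap : ∃ a ∈ V, ∃ ρ, IsConj z (nu (χ' (toM r1)) a) ∧
    ρ * nu (χ' (toM r1)) a * ρ⁻¹ = χ' (toM r1) ∧ ρ * χ' (toM r1) * ρ⁻¹ = nu (χ' (toM r1)) a := by
  have M := D.js.toMS
  have o : okN 40960 = true := by decide +kernel
  have e1 : α θ χ' 832 = χ' (toM r1) := by
    rw [α, show ms 832 = 0 by decide +kernel, show kt 832 = r1 by decide +kernel, el, E.setOf_zero,
      M.θ_empty, one_mul]
  have e2 : α θ χ' 31 = nu (χ' (toM r1)) (θ (E.setOf 40960)) := by
    rw [D.jc_nu r1_in o, α_small (by decide), M.θ_set_iff (by decide +kernel) (by decide +kernel)]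
    decide +kernel
  have h := ((D.ud.acts_of_actOK (k := 16510663534070904836933807694790901057347612)
    (F := 897390431991193603101736098868) (Ok.of_okS (by decide +kernel)) (by decide +kernel)).mul
      D.ud.tact).mul (D.ud.acts_of_actOK (k := 16520882057241658316049895306955399564083222)
    (F := 263224097900054017899018379323) (Ok.of_okS (by decide +kernel)) (by decide +kernel))
  have h1 := (h 31 (by decide)).trans (congrArg _ (by decide +kernel : _ = 832))
  have h2 := (h 832 (by decide)).trans (congrArg _ (by decide +kernel : _ = 31))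
  rw [e1, e2] at h1 h2
  refine ⟨_, M.θ_mem (okN_iff.1 o).2, _, ?_, h1, h2⟩
  rw [D.jc_nu r1_in o]
  exact M.isConj_tetrad ((card_setOf _).trans (by decide +kernel))

theorem JD.jc_gens : ∃ J : Set G, closure J = ⊤ ∧ ∀ j ∈ J, ∀ k ∈ J, ∃ y,
    (y * j * y⁻¹ ∈ cl V (χ' (toM r1)) ∨ y * j * y⁻¹ ∈ cl V z) ∧
      (y * k * y⁻¹ ∈ cl V (χ' (toM r1)) ∨ y * k * y⁻¹ ∈ cl V z) := by
  have M := D.js.toMS
  have := Cfsg.Agent.S0365.result
  let S : G → Prop := fun x => x ∈ cl V (χ' (toM r1)) ∨ x ∈ cl V z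
  have Sc : ∀ {n x}, n ∈ normalizer (V : Set G) → S x → S (n * x * n⁻¹) :=
    fun hn h => h.imp (jc_cl hn) (jc_cl hn)
  have o0 : Ok 1792359401209585958746269193883712624264192 := Ok.of_okS (by decide +kernel)
  have o1 : Ok 9280195819998927704995666284686466935726080 := Ok.of_okS (by decide +kernel)
  have hN : ∀ {m}, Ok m → evS θ χ' m ∈ normalizer (V : Set G) := fun h =>
    D.mem_N.2 ⟨_, M.θ_mem (okN_iff.1 h.1).2, _, rfl⟩
  have e1 := D.ud.evS_eq (o1.mu (Ok.ch r1_in)) (o0.mu o1) (by decide +kernel)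
  have e2 := D.ud.rel (x := (1792359401209585958746269193883712624264192, 9,
    812562716030802765183659813889)) (L := [(1792359401209585958746269193883712624264192, 9,
    812562716030802765183659813889), (1792359401209585958746269193883712624264192, 9,
    812562716030802765183659813889), (ch one24, 0, oneC 10)]) (by decide +kernel)
  have e3 := D.ud.evS_one (o0.mu o0) (by decide +kernel)
  have o2 := (o0.mu (Ok.ch r2_in)).mu o0
  have e4 := D.ud.evS_mu (o0.mu (Ok.ch r2_in)) o0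
  rw [D.ud.evS_mu o1 (Ok.ch r1_in), D.ud.evS_mu o0 o1, D.ud.evS_ch, ← mul_inv_eq_iff_eq_mul] at e1
  rw [D.ud.evS_mu o0 o0] at e3
  rw [D.ud.evS_mu o0 (Ok.ch r2_in), D.ud.evS_ch] at e4
  simp only [List.map, fw, D.ud.evS_ch, toM_one, map_one, mul_one] at e2
  have n0 := hN o0
  have s0 : S _ := Or.inl ⟨_, hN o1, e1⟩
  generalize evS θ χ' 1792359401209585958746269193883712624264192 = c at e2 e3 e4 n0 s0
  have ci := inv_eq_of_mul_eq_one_right e3
  have s1 : S (τ * c * τ * (τ * c)⁻¹) := by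
    rwa [mul_inv_rev, ci, inv_eq_of_mul_eq_one_right D.ud.t_sq, show τ * c * τ * (c * τ) =
      c⁻¹ * (c * τ * c * τ * c * τ) by group, e2, mul_one, ci]
  let J : Set G := {x | S x ∧ ∃ y, S (y * x * y⁻¹) ∧ S (y * τ * y⁻¹)}
  have hJ : ∀ {x}, S x → τ * x * τ⁻¹ = x → c * x * c⁻¹ ∈ closure J := fun {x} h e =>
    subset_closure ⟨Sc n0 h, τ * c, by
      rwa [show τ * c * (c * x * c⁻¹) * (τ * c)⁻¹ = τ * ((c * c) * x * (c * c)⁻¹) * τ⁻¹ by group, e3,
        one_mul, inv_one, mul_one, e], s1⟩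
  refine ⟨insert τ J, ?_, ?_⟩
  swap
  · rintro j (rfl | hj) k (rfl | hk)
    · exact ⟨_, s1, s1⟩
    · exact hk.2.imp fun _ h => h.symm
    · exact hj.2
    · exact ⟨1, by simpa using hj.1, by simpa using hk.1⟩
  let K : Subgroup M24 :=
    { carrier := {g | ∃ w ∈ V, w * χ' g ∈ closure J}
      one_mem' := ⟨1, one_mem _, by simp⟩
      mul_mem' := by
        rintro a b ⟨w, hw, h⟩ ⟨w', hw', h'⟩
        refine ⟨_, mul_mem hw ((mem_normalizer_iff.1 (D.χ_mem a) _).1 hw'), ?_⟩
        convert mul_mem h h' using 1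
        rw [map_mul]; group
      inv_mem' := by
        rintro a ⟨w, hw, h⟩
        refine ⟨_, (mem_normalizer_iff.1 (D.χ_mem a⁻¹) _).1 (inv_mem hw), ?_⟩
        convert inv_mem h using 1
        rw [map_inv]; group }
  have := D.finite
  have hT : MulAction.stabilizer M24 (tri Tr0) ≤ normalizer (K : Set M24) := fun t ht =>
    mem_normalizer_fintype fun g ⟨w, hw, h⟩ => by
      have h1 : closure J ≤ (closure J).comap (MulAut.conj (χ' t)).toMonoidHom :=
        (closure_le _).2 fun x ⟨h1, y, h2, h3⟩ => subset_closure ⟨Sc (D.χ_mem t) h1, y * (χ' t)⁻¹, by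
          convert h2 using 1; change _ * (χ' t * x * (χ' t)⁻¹) * _ = _; group, by
          convert h3 using 1
          rw [show y * (χ' t)⁻¹ * τ * (y * (χ' t)⁻¹)⁻¹ = y * (χ' t)⁻¹ * (τ * χ' t) * y⁻¹ by group,
            ← D.trio t ⟨t.2, ht⟩]
          group⟩
      refine ⟨_, (mem_normalizer_iff.1 (D.χ_mem t) _).1 hw, ?_⟩
      convert (show χ' t * (w * χ' g) * (χ' t)⁻¹ ∈ closure J from h1 h) using 1
      rw [map_mul, map_mul, map_inv]
      group
  have k0 : toM (sp _) ∈ K := ⟨_, M.θ_mem (okN_iff.1 o2.1).2, by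
    have := hJ (Or.inl (D.jc_mem (C := comp24 r1 r2) (P := r2) (by decide +kernel)))
      (mul_inv_eq_iff_eq_mul.2 (D.trio _ (toM_mem' (I.stab_tri le_rfl r2_in isTri_Tr0
        (by decide +kernel)))).symm)
    rwa [ci, ← e4] at this⟩
  have k1 : toM (sp _) ∉ MulAction.stabilizer M24 (tri Tr0) := fun h =>
    absurd (((R_toM o2.2).smul_tri_eq_iff (toM _).2 isTri_Tr0).1 h) (by decide +kernel)
  have k2 := (IsSimpleGroup.eq_bot_or_eq_top_of_normal K (normalizer_eq_top_iff.1
    (isCoatom_tri.2 _ (hT.lt_of_ne fun e => k1 (e.ge (le_normalizer k0)))))).resolve_left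
      fun e => k1 (mem_bot.1 (e.le k0) ▸ one_mem _)
  have t4 : (E.setOf 45).card = 4 := (card_setOf _).trans (by decide +kernel)
  have k3 := hJ (Or.inr (D.jc_tet t4)) (by
    rw [← show ms 21 = 45 by decide +kernel, ← α_small (θ := θ) (χ := χ') (c := 21) (by decide), D.ud.tact 21 (by decide)]
    exact congrArg _ (by decide +kernel))
  have k4 : ∀ d : Finset GolayPt, d.card = 4 → θ d ∈ closure J := fun d hd => by
    obtain ⟨n, hn, e⟩ := (M.orbit_eq (even_of_four t4) (by omega)).ge ⟨d, hd.trans t4.symm, rfl⟩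
    obtain ⟨v, hv, g, e'⟩ := D.mem_N.1 (mul_mem hn (inv_mem n0))
    obtain ⟨w, hw, h⟩ := k2.ge (mem_top g)
    have h1 := (mem_normalizer_iff.1 (mul_mem (D.χ_mem g) n0) _).1 (M.θ_mem (even_of_four t4))
    convert mul_mem (mul_mem h k3) (inv_mem h) using 1
    rw [← e, mul_inv_eq_iff_eq_mul.1 e', show v * χ' g * c * θ (E.setOf 45) * (v * χ' g * c)⁻¹ =
      v * (χ' g * c * θ (E.setOf 45) * (χ' g * c)⁻¹) * v⁻¹ by group, M.comm_V hv h1,
      show w * χ' g * (c * θ (E.setOf 45) * c⁻¹) * (w * χ' g)⁻¹ =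
      w * (χ' g * c * θ (E.setOf 45) * (χ' g * c)⁻¹) * w⁻¹ by group, M.comm_V hw h1]
    group
  have k5 : V ≤ closure J := fun v hv => by
    rcases M.mem_V_cases hv with rfl | ⟨d, hd, rfl⟩ | ⟨d, hd, rfl⟩
    · exact one_mem _
    · obtain ⟨g, hg, rfl⟩ := exists_smul_eq_of_card_eq (card_D2.trans hd.symm) (by rw [card_D2]; omega)
      have a : (E.setOf 15).card = 4 := (card_setOf _).trans (by decide +kernel)
      have b : (E.setOf 8388622).card = 4 := (card_setOf _).trans (by decide +kernel)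
      rw [show D2 = 15 ^^^ 8388622 by decide, E.setOf_xor, smul_symmDiff',
        M.θ_mul _ _ (even_smul _ (even_of_four a)) (even_smul _ (even_of_four b))]
      exact mul_mem (k4 _ ((Finset.card_smul_finset _ _).trans a))
        (k4 _ ((Finset.card_smul_finset _ _).trans b))
    · exact k4 d hd
  have k6 := closure_mono (Set.subset_insert τ J)
  refine D.top _ (fun s hs => k6 (k5 (M.θ_mem hs))) (fun g => k6 ?_) (subset_closure (Set.mem_insert _ _))
  obtain ⟨w, hw, h⟩ := k2.ge (mem_top g)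
  exact (mul_mem_cancel_left (k5 hw)).1 h

/-- `c = χ' r1 = α 832`; kernel checks in the models of `2^11 : M24` and `2^10 : L5(2)`. -/
theorem JD.hypC : HypC V z (χ' (toM r1)) := by
  have M := D.js.toMS
  have o0 : okN 0 = true := by decide +kernel
  have e0 : θ (E.setOf 0) = 1 := by rw [E.setOf_zero, M.θ_empty]
  refine ⟨fun v hv h => ?_, D.χ_mem _, fun h => ?_, ⟨Q, IsPGroup.of_card D.cardQ, fun x hx =>
    mem_centralizer_singleton_iff.2 (D.lx.z_comm x hx), D.lx.centralizer_le_normalizer, fun x hx => ?_⟩,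
    fun X h1 h2 h3 _ => D.jc_uniq h1 h2 h3, D.endo, D.jc_swap,
    ⟨[χ' (toM r1), χ' (toM 963721886883755259286232606933354528),
      χ' (toM 980224387687010295957922729495201824)], ?_, fun x hx => ?_, θ (E.setOf 17),
      M.θ_mem (okN_iff.1 (by decide +kernel)).2, fun h => ?_⟩,
    ⟨_, D.jc_mem (C := 18481695009605535089550587637974436) (P := 601764145483765446852708331748920352)
      (by decide +kernel), _, D.jc_mem (C := 934261090815646469951132273591492117)
      (P := 610961216753501286613532705619544224) (by decide +kernel), ?_⟩,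
    fun v => D.jc_fixc, fun v hv h => D.jc_fixc hv fun n hn _ => mem_centralizer_singleton_iff.1
      (D.jc_gen (fun w hw => mem_centralizer_singleton_iff.2 (M.comm_V hw hv))
        (fun d hd => mem_centralizer_singleton_iff.2 (h d hd)) hn),
    D.jc_gen (fun v hv => subset_closure ⟨le_normalizer hv, M.sq_V hv⟩) ?_, D.jc_gens⟩
  · rcases M.mem_V_cases hv with rfl | ⟨d, hd, rfl⟩ | ⟨d, hd, rfl⟩
    · exact absurd (isConj_one_left.1 h) D.lx.z_ne
    · exact absurd h (M.not_isConj_duad hd)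
    · exact D.jc_tet hd
  · obtain ⟨s, hs, e⟩ := (M.mem_V _).1 h
    exact jc_r1 (D.ud.inj s _ hs (by rw [← e, M.θ_sq hs]))
  · rcases D.lx.self_cent x fun y hy => (hx y hy).symm with rfl | rfl
    exacts [one_mem _, mem_zpowers _]
  · simp only [List.forall_mem_cons]
    exact ⟨jc_self _, D.jc_mem (C := 92948470393927162280331112091747505) (by decide +kernel),
      D.jc_mem (C := 23718225616857772238407008800672929) (by decide +kernel), by simp⟩
  · obtain ⟨s, hs, rfl⟩ := (M.mem_V x).1 hx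
    obtain ⟨σ, s1, s2, e⟩ := M.exists_θ hs
    obtain ⟨a, b, ⟨h1, h2, h3⟩, k⟩ := D.jc_three (p := (1, θ s)) ⟨o0, s2, by rw [e0, e]⟩ (jc_field s1 s2)
    obtain ⟨a', b', ⟨h4, h5, h6⟩, k⟩ := D.jc_three (p := (θ s, 1)) ⟨s2, o0, by rw [e0, e]⟩ k
    rw [Bool.and_eq_true, Nat.beq_eq, Nat.beq_eq, ← M.θ_set_iff h1 h5, ← M.θ_set_iff h2 h4] at k
    rw [h3, h6, k.1, k.2]; rfl
  · obtain ⟨a, b, ⟨-, -, h3⟩, k⟩ := D.jc_three (a := 17) (b := 17) (k := fun a _ => Nat.beq (pc24 a) 4)
      ⟨by decide +kernel, by decide +kernel, rfl⟩ (by decide +kernel)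
    rw [h3] at h
    exact M.not_isConj_duad ((card_setOf 17).trans (by decide +kernel))
      ((M.isConj_tetrad ((card_setOf a).trans (Nat.eq_of_beq_eq_true k))).trans h.symm)
  · rw [← map_mul, ← map_pow, ← map_mul, oneM (g := (_ * _) ^ 2 * _)
      ((((R_toM (I.of_okM (by decide +kernel))).mul (R_toM (I.of_okM (by decide +kernel)))).pow 2).mul
        (R_toM r1_in)) (by decide +kernel), map_one]
    exact one_mem _
  · rintro _ ⟨n, hn, rfl⟩
    refine subset_closure ⟨mul_mem (mul_mem hn (D.χ_mem _)) (inv_mem hn), ?_⟩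
    rw [conj_mul, jc_sq]; group

end CL.WR
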