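import Cfsg.Agent.INV.WR.DefB
import Cfsg.Agent.SPOR.J4.Out
import Cfsg.Agent.SPOR.J4.PresType
import Cfsg.Agent.S1703

/-!
The local data of the fourth Janko group used for the wreathed case.
-/

set_option autoImplicit false

namespace CL.WR

open Cfsg Subgroup CL.J4 CL.J4.Uq CL.Golay CL.MAut

variable {G : Type*} [Group G]

/-- `N(V) = θ χ = θ χ'`, `τ ∈ 2^10 : L5(2)` commutes with `χ'(Trio)`, `Q = O₂(C(z))` -/
structure JD (z : G) (V : Subgroup G) (θ : Finset GolayPt → G) (χ χ' : M24 →* G) (B : Subgroup G)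
    (τ : G) (Q : Subgroup G) : Prop where
  js : JS z V θ χ
  ud : UD θ χ' B τ
  trio : ∀ g : M24, (g : Pm) ∈ Trio → χ' g * τ = τ * χ' g
  lx : CL.LX.LX Q z
  cardQ : Nat.card Q = 2 ^ 13
  simple : IsSimpleGroup G
  card : Nat.card G = 86775571046077562880
  out : Nat.card (Out G) = 1
  top : ∀ F : Subgroup G, (∀ s, Even s.card → θ s ∈ F) → (∀ g, χ' g ∈ F) → τ ∈ F → F = ⊤

theorem exists_jd : ∃ (z : Spor.J4) (V : Subgroup Spor.J4) (θ : Finset GolayPt → Spor.J4)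
    (χ χ' : M24 →* Spor.J4) (B : Subgroup Spor.J4) (τ : Spor.J4) (Q : Subgroup Spor.J4),
    JD z V θ χ χ' B τ Q := by
  have hJ := Cfsg.Agent.S1703.result
  have := hJ.1
  have : Finite Spor.J4 := Nat.finite_of_card_ne_zero (by rw [hJ.2]; decide)
  have key : ∀ {z : Spor.J4} {Q κ ρ μ x}, HS z Q κ ρ μ x → ∃ V θ χ χ' B τ, JD z V θ χ χ' B τ Q :=
    fun S => by
    obtain ⟨V, θ, χ, h⟩ := S.exists_js
    obtain ⟨χ', B, t, u⟩ := exists_ud h.toMS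
      (h.ten_seven _ h.toMS.ten_A (h.toMS.α_34 ▸ h.toMS.α_mem (by decide)))
    obtain ⟨f, hf, hr⟩ := exists_S5 h ((orderOf_injective χ' u.χ_inj _).trans orderOf_σ7)
    have hT := u.comm_trio (u.comm_r2 hf hr)
    exact ⟨V, θ, χ, χ', B, t, h, u, hT, S.lx, S.card, hJ.1, hJ.2, h.out_one hJ,
      fun F h1 h2 h3 => u.eq_top hT hJ hJ.2 h1 h2 h3⟩
  obtain ⟨κ, ρ, h | h⟩ := J4G.raw.exists_hs
  · obtain ⟨V, θ, χ, χ', B, τ, D⟩ := key h
    exact ⟨_, V, θ, χ, χ', B, τ, _, D⟩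
  · obtain ⟨V, θ, χ, χ', B, τ, D⟩ := key h
    exact ⟨_, V, θ, χ, χ', B, τ, _, D⟩

variable {z : G} {V : Subgroup G} {θ : Finset GolayPt → G} {χ χ' : M24 →* G} {B : Subgroup G}
  {τ : G} {Q : Subgroup G} (D : JD z V θ χ χ' B τ Q)
include D

theorem JD.finite : Finite G := Nat.finite_of_card_ne_zero (by rw [D.card]; decide)

theorem JD.diff (g : M24) : (χ g)⁻¹ * χ' g ∈ V :=
  D.js.toMS.cent_V.le (mem_centralizer_iff.2 fun v hv => by
    obtain ⟨s, hs, rfl⟩ := (D.js.mem_V v).1 hv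
    exact comm_of_conj (D.js.χ_conj g s hs) (D.ud.χ_conj g s hs))

theorem JD.χ_mem (g : M24) : χ' g ∈ normalizer (V : Set G) :=
  mul_inv_cancel_left (χ g) (χ' g) ▸ mul_mem (D.js.toMS.χ_mem_N g) (le_normalizer (D.diff g))

theorem JD.mem_N {n : G} : n ∈ normalizer (V : Set G) ↔ ∃ v ∈ V, ∃ g, n = v * χ' g := by
  refine ⟨fun hn => ?_, ?_⟩
  · obtain ⟨s, g, hs, rfl⟩ := (D.js.mem_N n).1 hn
    exact ⟨θ s * (χ' g * ((χ g)⁻¹ * χ' g)⁻¹ * (χ' g)⁻¹), mul_mem (D.js.toMS.θ_mem hs)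
      ((mem_normalizer_iff.1 (D.χ_mem g) _).1 (inv_mem (D.diff g))), g, by group⟩
  · rintro ⟨v, hv, g, rfl⟩
    exact mul_mem (le_normalizer hv) (D.χ_mem g)

end CL.WR
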