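import Cfsg.Agent.INV.WR.J4D
import Cfsg.Agent.INV.WR.J4X1

/-! `Ext0`, `Ext1` and the endomorphisms for the fourth Janko group. -/

set_option autoImplicit false

namespace CL.WR

open Cfsg Subgroup CL.J4 CL.J4.Uq CL.Golay CL.MAut CL.K Ct

universe u

namespace Ct.J4

/-- the even set with coordinates `a` -/
noncomputable def cm (a : ℕ) : ℕ := app (fun i => Nat.xor (Nat.pow 2 (Nat.add 12 i)) 8388608) 11 a

theorem cm_ok {a : ℕ} (ha : a < 2 ^ 11) : okN (cm a) = true ∧ (syn (cm a) = 0 → a = 0) := by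
  have := allLt2_iff.1 (show allLt2 (fun a => force (cm a) fun c => okN c &&
    (!Nat.beq (syn c) 0 || Nat.beq a 0)) 32 64 = true by decide +kernel) a ha
  rw [force_eq] at this
  simpa [or_iff_not_imp_left] using this

theorem cm_surj {σ : ℕ} (h : σ < 4096) (ho : okN (σ <<< 12) = true) : cm (σ % 2048) = σ <<< 12 := by
  have := allLt2_iff.1 (show allLt2 (fun σ => !okN (σ <<< 12) ||
    Nat.beq (cm (σ % 2048)) (σ <<< 12)) 64 64 = true by decide +kernel) σ h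
  simpa [ho] using this

theorem cm_xor (a c : ℕ) : cm (a ^^^ c) = cm a ^^^ cm c :=
  app_xor (m := 24) (fun i hi => by interval_cases i <;> decide) a c

/-- the table `P` acts by the matrix `F` -/
noncomputable def actOK (P : ℕ) (F : ℕ → ℕ) : Bool :=
  allLt (fun i => Nat.beq (syn (img24 P (cm (Nat.pow 2 i)))) (syn (cm (F i)))) 11

/-- the two generators -/
def gs (k : ℕ) : ℕ := cond (Nat.beq k 0) xJ yJ

theorem gs_in (k : ℕ) : I M24 (gs k) := by
  unfold gs; cases Nat.beq k 0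
  exacts [yJ_in, xJ_in]

theorem gs_top {K : Subgroup M24} (hK : ∀ k < 2, toM (gs k) ∈ K) (g : M24) : g ∈ K := by
  have hK' : ∀ k, toM (gs k) ∈ K := fun k => by
    cases k
    exacts [hK 0 (by norm_num), hK 1 (by norm_num)]
  have key : ∀ {x : Pm} {P : ℕ} (w : List ℕ), R x P → x ∈ M24 → wd gs w = P → x ∈ K.map M24.subtype :=
    fun w h1 h2 h3 => ⟨⟨_, h2⟩, by rw [← toM_eq (g := ⟨_, h2⟩) h1, ← h3]; exact wd_mem gs_in hK' w, rfl⟩
  have : M24 ≤ K.map M24.subtype := by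
    refine closure_gens_eq.1.symm.trans_le ((closure_le _).2 ?_)
    rintro _ (rfl | rfl | rfl)
    · exact key [0, 1, 0, 1, 1, 0, 1, 1, 0, 1, 1, 0, 1, 0, 1, 1, 0, 1, 1, 0, 1, 0, 1, 0, 1, 0, 1, 1, 0, 1,
        1, 0, 1, 1, 0, 1, 0, 1, 0, 1, 0, 1, 0, 1, 1, 0, 1, 0, 1, 0, 1, 1, 0, 1, 1, 0, 1, 0, 1, 0, 1, 1, 0]
        R_transl transl_mem (by decide +kernel)
    · exact key [0, 1, 1, 0, 1, 0, 1, 0, 1, 0, 1, 0, 1, 0, 1, 1, 0, 1, 1, 0, 1, 0, 1, 0, 1, 0, 1, 1, 0, 1,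
        0, 1, 0, 1, 0, 1, 0, 1, 0, 1, 0, 1, 1, 0, 1, 1, 0, 1, 1, 0, 1, 0, 1, 1, 0, 1, 0, 1, 0, 1]
        R_projInv projInv_mem (by decide +kernel)
    · exact key [0, 1, 1, 0, 1, 1, 0, 1, 1, 0, 1, 0, 1, 0, 1, 0, 1, 1, 0, 1, 1, 0, 1, 1, 0, 1, 0, 1, 0, 1,
        0, 1, 1, 0, 1, 0, 1, 1, 0, 1, 0, 1, 1, 0, 1, 1, 0, 1, 1, 0, 1, 1, 0, 1, 0, 1, 1, 0, 1, 0, 1, 1, 0,
        1, 1, 0, 1, 0, 1] R_cubeTwist cubeTwist_mem (by decide +kernel)
  obtain ⟨x, hx, e⟩ := this g.2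
  rwa [← show x = g from Subtype.ext e]

/-- two elements of the centraliser -/
def hs (k : ℕ) : ℕ :=
  cond (Nat.beq k 0) 27685742973212577630517466326157038 970052041152093594282953189501179426

end Ct.J4

open Ct.J4

variable {G : Type*} [Group G] {z : G} {V : Subgroup G} {θ : Finset GolayPt → G} {χ χ' : M24 →* G}
  {B : Subgroup G} {τ : G} {Q : Subgroup G} (D : JD z V θ χ χ' B τ Q)
include D

theorem JD.x_co : Co V 11 fun a => θ (E.setOf (cm a)) := by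
  have h := D.js.toMS
  refine ⟨fun a ha c hc => ?_, fun a ha e => (cm_ok ha).2 ?_, fun v => ⟨fun hv => ?_, ?_⟩⟩
  · rw [cm_xor, E.setOf_xor]
    exact h.θ_mul _ _ (okN_iff.1 (cm_ok ha).1).2 (okN_iff.1 (cm_ok hc).1).2
  · have e0 : θ (E.setOf 0) = 1 := by
      have := h.θ_mul _ _ (okN_iff.1 (show okN 0 = true by decide +kernel)).2
        (okN_iff.1 (show okN 0 = true by decide +kernel)).2
      rw [← E.setOf_xor] at this
      simpa using this
    exact ((h.θ_set_iff (cm_ok ha).1 (by decide +kernel)).1 (e.trans e0.symm)).trans (by decide +kernel)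
  · obtain ⟨s, hs, rfl⟩ := (h.mem_V v).1 hv
    obtain ⟨σ, h1, h2, h3⟩ := h.exists_θ hs
    exact ⟨σ % 2048, Nat.mod_lt _ (by norm_num), by rw [cm_surj h1 h2, h3]⟩
  · rintro ⟨a, ha, rfl⟩
    exact h.θ_mem (okN_iff.1 (cm_ok ha).1).2

theorem JD.x_act {P : ℕ} (hP : I M24 P) {F : ℕ → ℕ} (hF : ∀ i < 11, F i < 2 ^ 11)
    (h : actOK P F = true) (i : ℕ) (hi : i < 11) :
    χ' (toM P) * θ (E.setOf (cm (2 ^ i))) * (χ' (toM P))⁻¹ = θ (E.setOf (cm (F i))) := by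
  have h1 := (cm_ok (pow_lt hi)).1
  rw [D.ud.χ_conj _ _ (okN_iff.1 h1).2, ← (R_toM hP).setOf_img]
  exact (D.js.toMS.θ_set_iff (okN_img hP h1) (cm_ok (hF i hi)).1).2
    (Nat.eq_of_beq_eq_true (allLt_iff.1 h i hi))

theorem JD.ext : Ext0.{u} V ∧ Ext1.{u} V := by
  have lt := fun k i => mx_lt (m := 11) (K := 2047) (by norm_num) xTM k i
  refine Gn.ext01 (g := fun k => χ' (toM (gs k))) ⟨D.x_co, by norm_num, by norm_num,
    fun k => D.χ_mem _, fun k _ i _ => lt k i, fun k hk => D.x_act (gs_in k) (fun i _ => lt k i)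
      (allLt_iff.1 (show allLt (fun k => actOK (gs k) (mx 11 2047 xTM k)) 2 = true by decide +kernel) k hk),
    fun K h1 h2 n hn => ?_, fun w hw => ?_⟩ Ct.J4.c0
  · obtain ⟨v, hv, g, rfl⟩ := D.mem_N.1 hn
    exact mul_mem (h1 hv) (gs_top (K := K.comap χ') h2 g)
  · have := List.all_eq_true.1 (show rels.all (fun w => w.all (· < 2) && Nat.beq (wd gs w) one24) = true by
      decide +kernel) w hw
    rw [Bool.and_eq_true, List.all_eq_true] at this
    refine ⟨fun k hk => by simpa using this.1 k hk, ?_⟩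
    have e := congrArg χ' (wd_spec gs_in w).2
    rw [Nat.eq_of_beq_eq_true this.2, toM_one, map_one, map_list_prod, List.map_map] at e
    exact e ▸ V.one_mem

theorem JD.endo (α : G → G) (h1 : ∀ v ∈ V, α v ∈ V) (h2 : ∀ u ∈ V, ∀ v ∈ V, α (u * v) = α u * α v)
    (h3 : ∀ n ∈ normalizer (V : Set G), Commute n (χ' (toM r1)) → ∀ v ∈ V,
      α (n * v * n⁻¹) = n * α v * n⁻¹) :
    ∃ x y : Bool, ∀ v ∈ V, α v = cond x v 1 * cond y (nu (χ' (toM r1)) v) 1 := by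
  have lt := fun T k i => mx_lt (m := 11) (K := 2047) (by norm_num) T k i
  have hin : ∀ k < 2, I M24 (hs k) := fun k hk =>
    I.of_okM (allLt_iff.1 (show allLt (fun k => okM (hs k)) 2 = true by decide +kernel) k hk)
  refine D.x_co.endo (g := fun k => χ' (toM (hs k))) (L := 2) (M := mx 11 2047 xTH)
    (N := mx 11 2047 xTN 0) (x := 4096) (y := 64) (by norm_num) (fun k hk => ⟨D.χ_mem _, ?_⟩)
    (fun k _ i _ => lt _ k i) (fun k hk => D.x_act (hin k hk) (fun i _ => lt _ k i)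
      (allLt_iff.1 (show allLt (fun k => actOK (hs k) (mx 11 2047 xTH k)) 2 = true by decide +kernel) k hk))
    (fun i _ => lt _ 0 i) (D.x_act r1_in (F := fun i => mx 11 2047 xTN 0 i ^^^ 2 ^ i)
      (fun i hi => Nat.xor_lt_two_pow (lt _ 0 i) (pow_lt hi)) (by decide +kernel)) Ct.J4.c2 α h1 h2 h3
  refine Commute.map ?_ χ'
  show _ * _ = _ * _
  rw [← toM_comp (hin k hk) r1_in, ← toM_comp r1_in (hin k hk), Nat.eq_of_beq_eq_true (allLt_iff.1
    (show allLt (fun k => Nat.beq (comp24 (hs k) r1) (comp24 r1 (hs k))) 2 = true by decide +kernel) k hk)]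

end CL.WR
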