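import Cfsg.Agent.INV.WR.M24N
import Cfsg.Agent.INV.WR.CertM

/-! `Ext0` and the endomorphisms for the sextet group of `M24`. -/

set_option autoImplicit false

namespace CL.WR

open Cfsg Subgroup CL.J4 CL.Golay CL.K Ct

universe u

namespace Ct.Sx

/-- matrices of the two generators -/
def xTM : ℕ := 1365910259502599381515
/-- relators with their values -/
def rels : List (List ℕ × ℕ) := [([0, 0, 0], 3), ([1, 1, 1, 1, 1, 1], 1),
  ([0, 1, 0, 1, 0, 1, 0, 1, 0, 1, 0, 1], 0), ([0, 0, 1, 0, 0, 1, 0, 0, 1, 0, 0, 1], 42),
  ([0, 1, 1, 0, 1, 1, 1, 0, 1, 1, 0, 1, 1, 1], 17)]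
/-- the forms -/
def xTT : ℕ := nat_lit 0x8200000c00000e04e000000000000000000000000000000000000000000000000800200aaa40083c8000000000000000000000000000000000000000000000008800030e006a86386000000000000000000000000000000000000000000000008800a20622a007b22000000000000000000000000000000000000000000000008800a088006206b08000000000000000000000000000000000000000000000008a0021068882063e20000000000000000000000000000000000000000000000088002008a860083c80000000000000000000000000000000000000000000000008000084206006386000000000000000000000000000000000000000000000000000a28c8ac02d8ea000000000000000000000000000000000000000000000000200810200e00e006000000000000000000000000000000000000000000000008000228400e00e008000000000000000000000000000000000000000000000008000218c20e20e00800000000000000000000000000000000000000000000000800000020800000060000000000000000000000000000000000000000000000082002082004000006000000000000000000000000000000000000000000000008200200600e08000e000000000000000000000000000000000000000000000008000000600e004008000000000000000000000000000000000000000000000008200010420820610600000000000000000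0000000000000000000000000000008200218220020000a000000000000000000000000000000000000000000000000200208000e000006000000000000000000000000000000000000000000000008000000220e000000000000000000000000000000000000000000000000000008200000400000e00e0000000000000000000000000000000000000000000000002002004208006380000000000000000000000000000000000000000000000008000010600e000008000000000000000000000000000000000000000000000000200218020e20000600000000000000000000000000000000000000000000000820020820000000060000000000000000000000000000000000000000000000002002080006000006000000000000000000000000000000000000000000000000200208400e00000e000000000000000000000000000000000000000000000008000208400e00600800000000000000000000000000000000000000000000000800001862082061860000000000000000000000000000000000000000000000000000100200200008000000000000000000000000000000000000000000000008200208200000000000000000000000000000000000000000000000000000000020020800000000000000000000000000000000000000000000000000000000000000002000000000000000000000000000000000000000000000000000000008200000200000000000000000000000000000000000000000000000000000000820020000000000000000000000000000000000000000000000000000000000000000000000000000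
/-- matrices of three elements of the centraliser -/
def xTH : ℕ := 50919771630841321814050957985927
/-- matrix of the commutator map -/
def xTN : ℕ := 46618487921

theorem c0 : forL (relP 6 (mx 6 63 xTM)) (rels.map Prod.fst) [1]
    (cobOK 6 2 (mx 6 63 xTM) fun i j => row xTT (Nat.add (Nat.mul 6 i) j)) = true := by
  decide +kernel

theorem c2 : endOK 6 3 (mx 6 63 xTH) (mx 6 63 xTN 0) 128 16 = true := by
  decide +kernel

theorem co : Co sxV 6 fun a => toM (sxP a) :=
  ⟨fun _ ha _ hc => (sxTab.mul ha hc).symm,
    fun _ ha e => sxTab.toM_inj ha (by norm_num) (e.trans sxTab.one.symm), fun _ => mem_sxV⟩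

/-- the table `P` acts by the matrix `F` -/
noncomputable def actOK (P : ℕ) (F : ℕ → ℕ) : Bool :=
  allLt (fun i => Nat.beq (comp24 P (sxP (Nat.pow 2 i))) (comp24 (sxP (F i)) P)) 6

theorem act {P : ℕ} (hP : I M24 P) {F : ℕ → ℕ} (hF : ∀ i < 6, F i < 2 ^ 6) (h : actOK P F = true)
    (i : ℕ) (hi : i < 6) : toM P * toM (sxP (2 ^ i)) * (toM P)⁻¹ = toM (sxP (F i)) := by
  rw [mul_inv_eq_iff_eq_mul, ← toM_comp hP (sxP_in (pow_lt hi)), ← toM_comp (sxP_in (hF i hi)) hP]
  exact congrArg toM (Nat.eq_of_beq_eq_true (allLt_iff.1 h i hi))

theorem norm {P : ℕ} (hP : I M24 P) {F : ℕ → ℕ} (hF : ∀ i < 6, F i < 2 ^ 6) (h : actOK P F = true) :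
    toM P ∈ normalizer (sxV : Set M24) :=
  mem_normalizer_fintype fun v hv => by
    obtain ⟨a, ha, rfl⟩ := mem_sxV.1 hv
    rw [co.act hF (act hP hF h) ha]
    exact co.mem' (app_lt hF a)

/-- the two generators -/
def gs (k : ℕ) : ℕ :=
  cond (Nat.beq k 0) 375635635232685696784932935709184490 362865188151866873719834754817831499

theorem gs_in (k : ℕ) : I M24 (gs k) := by
  unfold gs; cases Nat.beq k 0 <;> exact I.of_okM (by decide +kernel)

/-- three elements of the centraliser -/
def hs (k : ℕ) : ℕ := cond (Nat.beq k 0) 61483932992016479902769594068568087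
  (cond (Nat.beq k 1) 21184326359540341300256793493145655 149753360266849062053330988476119217)

end Ct.Sx

open Ct.Sx

theorem m24_ext : Ext0.{u} sxV := by
  have lt := fun k i => mx_lt (m := 6) (K := 63) (by norm_num) xTM k i
  have ok : ∀ k < 2, actOK (gs k) (mx 6 63 xTM k) = true :=
    allLt_iff.1 (show allLt (fun k => actOK (gs k) (mx 6 63 xTM k)) 2 = true by decide +kernel)
  refine Gn.ext0 (g := fun k => toM (gs k)) ⟨co, by norm_num, by norm_num, fun k => ?_,
    fun k _ i _ => lt k i, fun k hk => act (gs_in k) (fun i _ => lt k i) (ok k hk),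
    fun K _ h2 n hn => ?_, fun w hw => ?_⟩ Sx.c0
  · cases k
    · exact Sx.norm (gs_in 0) (fun i _ => lt 0 i) (ok 0 (by norm_num))
    · exact Sx.norm (gs_in 1) (fun i _ => lt 1 i) (ok 1 (by norm_num))
  · have : grp gSex ≤ K.map M24.subtype := by
      refine Enc.gen_le fun P hP => ?_
      rcases List.mem_pair.1 hP with rfl | rfl
      · exact ⟨_, ⟨_, h2 0 (by norm_num), rfl⟩, R_toM (gs_in 0)⟩
      · exact ⟨_, ⟨_, h2 1 (by norm_num), rfl⟩, R_toM (gs_in 1)⟩
    obtain ⟨x, hx, e⟩ := this (mem_sxN.1 hn)
    rwa [← show x = n from Subtype.ext e]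
  · obtain ⟨r, hr, rfl⟩ := List.mem_map.1 hw
    have := List.all_eq_true.1 (show Sx.rels.all (fun r => r.1.all (· < 2) && (Nat.blt r.2 64 &&
      Nat.beq (wd gs r.1) (sxP r.2))) = true by decide +kernel) r hr
    rw [Bool.and_eq_true, Bool.and_eq_true, List.all_eq_true] at this
    refine ⟨fun k hk => by simpa using this.1 k hk, ?_⟩
    rw [← (wd_spec gs_in r.1).2, Nat.eq_of_beq_eq_true this.2.2]
    exact mem_sxV.2 ⟨_, Nat.blt_eq.mp this.2.1, rfl⟩

theorem m24_endo (α : M24 → M24) (h1 : ∀ v ∈ sxV, α v ∈ sxV)
    (h2 : ∀ u ∈ sxV, ∀ v ∈ sxV, α (u * v) = α u * α v)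
    (h3 : ∀ n ∈ normalizer (sxV : Set M24), Commute n sxc → ∀ v ∈ sxV,
      α (n * v * n⁻¹) = n * α v * n⁻¹) :
    ∃ x y : Bool, ∀ v ∈ sxV, α v = cond x v 1 * cond y (nu sxc v) 1 := by
  have lt := fun T k i => mx_lt (m := 6) (K := 63) (by norm_num) T k i
  have hin : ∀ k < 3, I M24 (hs k) := fun k hk =>
    I.of_okM (allLt_iff.1 (show allLt (fun k => okM (hs k)) 3 = true by decide +kernel) k hk)
  have ok : ∀ k < 3, actOK (hs k) (mx 6 63 xTH k) = true :=
    allLt_iff.1 (show allLt (fun k => actOK (hs k) (mx 6 63 xTH k)) 3 = true by decide +kernel)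
  have hc : I M24 970499966350631336865513127433832480 := I.of_okM (by decide +kernel)
  refine co.endo (g := fun k => toM (hs k)) (L := 3) (M := mx 6 63 xTH) (N := mx 6 63 xTN 0)
    (x := 128) (y := 16) (by norm_num)
    (fun k hk => ⟨Sx.norm (hin k hk) (fun i _ => lt _ k i) (ok k hk), ?_⟩) (fun k _ i _ => lt _ k i)
    (fun k hk => act (hin k hk) (fun i _ => lt _ k i) (ok k hk)) (fun i _ => lt _ 0 i)
    (act hc (F := fun i => mx 6 63 xTN 0 i ^^^ 2 ^ i)
      (fun i hi => Nat.xor_lt_two_pow (lt _ 0 i) (pow_lt hi)) (by decide +kernel)) Sx.c2 α h1 h2 h3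
  show _ * toM _ = toM _ * _
  rw [← toM_comp (hin k hk) hc, ← toM_comp hc (hin k hk), Nat.eq_of_beq_eq_true (allLt_iff.1
    (show allLt (fun k => Nat.beq (comp24 (hs k) 970499966350631336865513127433832480)
      (comp24 970499966350631336865513127433832480 (hs k))) 3 = true by decide +kernel) k hk)]

end CL.WR
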